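import Cfsg.Agent.H58.SuzRep
import Cfsg.Agent.H95.StemCover
import Cfsg.Agent.S2048
import Cfsg.Agent.SuzThree.Basic
import Cfsg.Agent.TwoF.SpB.Wt
import Cfsg.Agent.Omega.EH3.ETwo.F4

/-!
# TwoF / SP: words in the sixfold cover of `Suz`, orbits of weights, modules over the field with four elements (helper95)
-/

set_option autoImplicit false
set_option maxHeartbeats 400000
set_option maxRecDepth 100000

namespace Cfsg.Agent.TwoF.SpE.Suz

open Cfsg Subgroup Module Cfsg.Agent.TwoF.Gen Cfsg.Agent.TwoF.SpB Cfsg.Agent.H58.SuzRep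
open Cfsg.Spor (Suz)
open Cfsg.Agent.Lib.PackMat (checkEq checkScalar okG)
open Cfsg.Agent.SporadicRecognition.SuzOrder (el)

/-- a scalar and a word -/
abbrev Wz : Type := ℕ × List Spor.Suz.Gen

/-- the packed scalar `3 ^ k` -/
def sk (k : ℕ) : ℕ := 3 ^ k % 7 * (s6 / 6)

/-- the value -/
noncomputable def val (a : Wz) : Y := z ^ a.1 * (a.2.map s).prod

/-- the product -/
def ml (a b : Wz) : Wz := (a.1 + b.1, a.2 ++ b.2)

/-- the product of a list -/
def pl (F : ℕ → Wz) (w : List ℕ) : Wz := ((w.map fun i => (F i).1).sum, w.flatMap fun i => (F i).2)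

/-- equality -/
noncomputable def eqz (a b : Wz) : Bool := checkEq C12 (sk a.1 :: W a.2) (sk b.1 :: W b.2) 0 12

/-- equality up to a scalar -/
noncomputable def eqm (a b : Wz) : Bool := (List.range 6).any fun k => eqz (k + a.1, a.2) b

theorem z_comm (y : Y) : Commute z y := (mem_center_iff.1 (q_ker q_z) y).symm

theorem val_ml (a b : Wz) : val (ml a b) = val a * val b := by
  rw [val, val, val, ml, pow_add, List.map_append, List.prod_append, mul_assoc, mul_assoc, ← mul_assoc (z ^ b.1),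
    ((z_comm _).pow_left b.1).eq, mul_assoc]

theorem val_nil : val (0, []) = 1 := mul_one _

theorem val_z (k : ℕ) : val (k, []) = z ^ k := mul_one _

theorem val_pl (F : ℕ → Wz) (w : List ℕ) : val (pl F w) = (w.map fun i => val (F i)).prod := by
  induction w with
  | nil => exact val_nil
  | cons i w ih => rw [List.map_cons, List.prod_cons, ← ih, ← val_ml]; rfl

theorem sk_spec (k : ℕ) : okG C12 (sk k) = true ∧ mk (sk k) = (3 : ZMod 7) ^ k • (1 : M12) := by
  have h : ∀ c < 7, okG C12 (c * (s6 / 6)) = true ∧ checkScalar C12 [c * (s6 / 6)] c 0 12 = true := by decide +kernel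
  obtain ⟨h1, h2⟩ := h _ (Nat.mod_lt (3 ^ k) (by norm_num))
  have h3 := prod_scalar (Nat.mod_lt (3 ^ k) (by norm_num)) (fun g hg => List.mem_singleton.1 hg ▸ h1) h2
  rw [ZMod.natCast_mod, Nat.cast_pow, List.map_singleton, List.prod_singleton] at h3
  exact ⟨h1, h3⟩

theorem coe_val (a : Wz) : ((val a : M12ˣ) : M12) = ((sk a.1 :: W a.2).map mk).prod := by
  rw [val, Subgroup.coe_mul, Units.val_mul, coe_z_pow, coe_s, coe_prod, List.map_cons, List.prod_cons, (sk_spec _).2]

theorem val_eq {a b : Wz} (h : eqz a b = true) : val a = val b := by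
  have k : ∀ a : Wz, ∀ g ∈ sk a.1 :: W a.2, okG C12 g = true := fun a g hg =>
    (List.mem_cons.1 hg).elim (fun e => e ▸ (sk_spec _).1) (ok_W _ g)
  exact Subtype.ext (Units.ext (by rw [coe_val, coe_val]; exact prod_eq (k a) (k b) h))

theorem q_val (a : Wz) : q (val a) = el a.2 := by
  rw [val, map_mul, map_pow, q_z, one_pow, one_mul, map_list_prod, List.map_map]
  exact congrArg List.prod (List.map_congr_left fun x _ => σ_injective (by rw [Function.comp, σ_q]; exact (σ_on x).symm))

variable {G : Type} [Group G] {ψ : Y →* G}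

theorem map_eq (hz : ψ z = 1) {a b : Wz} (h : eqm a b = true) : ψ (val a) = ψ (val b) := by
  obtain ⟨k, -, h⟩ := List.any_eq_true.1 h
  rw [← val_eq h, show (k + a.1, a.2) = ml (k, []) a from rfl, val_ml, val_z, map_mul, map_pow, hz, one_pow, one_mul]

theorem el_eq {v w : List Spor.Suz.Gen} (h : eqm (0, v) (0, w) = true) : el v = el w :=
  (q_val (0, v)).symm.trans ((map_eq q_z h).trans (q_val _))

theorem ker_q {y : Y} (h : q y = 1) : ∃ i : ℕ, y = z ^ i := by
  obtain ⟨r, hr⟩ := Matrix.GeneralLinearGroup.mem_center_iff_val_mem_range_scalar.1 (center_of_q h)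
  have h1 : r ≠ 0 := by
    rintro rfl
    have : Fact (1 < 7) := ⟨by norm_num⟩
    exact (y : M12ˣ).ne_zero (hr.symm.trans (map_zero _))
  obtain ⟨i, -, rfl⟩ := (by decide : ∀ r : ZMod 7, r ≠ 0 → ∃ i < 6, r = 3 ^ i) r h1
  refine ⟨i, Subtype.ext (Units.ext ?_)⟩
  rw [coe_z_pow, ← hr, Matrix.scalar_apply, Matrix.smul_one_eq_diagonal]

/-- **the cover** -/
theorem exists_cov {K : Type} [Group K] [Finite K] (hP : commutator K = ⊤) {π : K →* Suz} (hs : Function.Surjective π)
    (hc : π.ker ≤ center K) : ∃ φ : Y →* K, Function.Surjective φ ∧ ∀ x, π (φ x) = q x := by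
  have h1 : commutator Suz = ⊤ := by
    have h := map_commutator_eq K π
    rw [hP, ← MonoidHom.range_eq_map, MonoidHom.range_eq_top.2 hs] at h
    exact h.symm
  have h2 : q.ker = zpowers z := le_antisymm (fun y hy => (ker_q hy).elim fun i e => e ▸ npow_mem_zpowers z i)
    (zpowers_le.2 q_z)
  have : Finite Suz := Finite.of_surjective π hs
  exact H95.StemCover.exists_cover' h1 S2048.result q ⟨q_surj, q_ker, h2 ▸ zpowers_le.2 z_mem⟩
    (by rw [h2, Nat.card_zpowers, orderOf_z, Nat.card_congr Multiplicative.toAdd, Nat.card_zmod]) hP π hs hc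

/-- the generators commute and have order dividing `l` -/
def comB (eq : Wz → Wz → Bool) (F : ℕ → Wz) (l m : ℕ) : Bool :=
  allTo (fun i => eq (pl F (List.replicate l i)) (0, []) && allTo (fun j => eq (ml (F i) (F j)) (ml (F j) (F i))) i) m

/-- the action of a word -/
def rlB (eq : Wz → Wz → Bool) (F : ℕ → Wz) (m : ℕ) (h : Wz) (ws : List (List ℕ)) : Bool :=
  allTo (fun j => (ws.getD j []).all (fun i => Nat.blt i m) && eq (ml (F j) h) (ml h (pl F (ws.getD j [])))) m

variable {eq : Wz → Wz → Bool} (he : ∀ a b, eq a b = true → ψ (val a) = ψ (val b)) {F : ℕ → Wz} {l m : ℕ}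

include he in
theorem rl_of {h : Wz} {ws : List (List ℕ)} (H : rlB eq F m h ws = true) :
    Rl (fun i => ψ (val (F i))) m (ψ (val h)) ws := fun j hj => by
  have h1 := (allTo_iff _ _).1 H j hj
  rw [Bool.and_eq_true] at h1
  refine ⟨fun i hi => Nat.blt_eq.mp (List.all_eq_true.1 h1.1 i hi), ?_⟩
  have h2 := he _ _ h1.2
  rwa [val_ml, val_ml, val_pl, map_mul, map_mul, map_list_prod, List.map_map] at h2

include he in
theorem mu_of [Finite G] {k : Type} [Field k] {V : Type} [AddCommGroup V] [Module k V] [FiniteDimensional k V]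
    (ρ : Representation k G V) (hl : l.Prime) (hk : (l : k) ≠ 0) (H : comB eq F l m = true) :
    ∃ μ, Mu ρ (fun i => ψ (val (F i))) l m μ := by
  have h1 := fun i hi => Bool.and_eq_true_iff.1 ((allTo_iff _ _).1 H i hi)
  have h2 : ∀ i < m, ∀ j < i, ψ (val (F i)) * ψ (val (F j)) = ψ (val (F j)) * ψ (val (F i)) := fun i hi j hj => by
    have h3 := he _ _ ((allTo_iff _ _).1 (h1 i hi).2 j hj)
    rwa [val_ml, val_ml, map_mul, map_mul] at h3
  refine exists_mu ρ hl hk (fun i hi j hj => ?_) fun i hi => ?_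
  · rcases lt_trichotomy i j with h | rfl | h
    · exact (h2 j hj i h).symm
    · rfl
    · exact h2 i hi j h
  · have h3 := he _ _ (h1 i hi).1
    rwa [val_pl, val_nil, List.map_replicate, List.prod_replicate, map_pow, map_one] at h3

theorem he_z (a b : Wz) (h : eqz a b = true) : ψ (val a) = ψ (val b) := congrArg ψ (val_eq h)

/-- the orbits `Os` cover the weights with the property `p` -/
noncomputable def covB (l m : ℕ) (Ws : List (List (List ℕ) × ℕ)) (p : ℕ → Bool) (Os : List (ℕ × ℕ)) : Bool :=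
  chkO l m Ws && (Os.all fun o => chkV l m Ws o.1 o.2) && allTo (fun u => !p u || Os.any fun o => o.2.testBit u) (l ^ m)

/-- one of the orbits occurs -/
theorem exists_orb {k : Type} [Field k] {V : Type} [AddCommGroup V] [Module k V] {ρ : Representation k G V} {f : ℕ → G}
    {μ : ℕ → ℕ} (H : Mu ρ f l m μ) (hl : 0 < l) {Ws : List (List (List ℕ) × ℕ)} (h1 : ∀ p ∈ Ws, ∃ h, Rl f m h p.1)
    {p : ℕ → Bool} {Os : List (ℕ × ℕ)} (h2 : covB l m Ws p Os = true) (h3 : 0 < sm p μ (l ^ m)) :
    ∃ o ∈ Os, ∀ r : ℕ → Bool, cl o.2 0 0 r (l ^ m) 1 ≤ sm r μ (l ^ m) := by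
  simp only [covB, Bool.and_eq_true] at h2
  obtain ⟨u, hu, h4⟩ := Finset.exists_ne_zero_of_sum_ne_zero h3.ne'
  have h5 := (allTo_iff _ _).1 h2.2 u (Finset.mem_range.1 hu)
  cases e : p u
  · simp [e] at h4
  rw [e, if_pos rfl] at h4
  obtain ⟨o, ho, h6⟩ := List.any_eq_true.1 (by rwa [e] at h5)
  have h7 := H.orb hl h1 h2.1.1 (List.all_eq_true.1 h2.1.2 o ho)
  refine ⟨o, ho, fun r => le_trans ?_ (sm_lab (v2 := 0) (v3 := 0) (b := 0) (c := 0) h7 (by simp) (by simp) r _).1⟩
  rw [mul_zero, mul_zero, add_zero, add_zero, ← h7 u h6]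
  exact Nat.le_mul_of_pos_right _ (Nat.pos_of_ne_zero h4)

open Omega.EH3.ETwo in
/-- **a module over the field with four elements** -/
theorem half {V : Type} [AddCommGroup V] [Module (ZMod 2) V] [Finite V] (σ : Representation (ZMod 2) G V) {c : G}
    (hc : ∀ g, c * g = g * c) (h3 : c ^ 3 = 1) (hf : fx σ (zpowers c) = ⊥) :
    ∃ (k : Type) (_ : Field k) (_ : CharP k 2) (_ : Module k V) (_ : FiniteDimensional k V) (τ : Representation k G V),
      (∀ g v, τ g v = σ g v) ∧ (∀ B, cod σ B = 2 * cod τ B) ∧ ∀ B, Cub τ B → Cub σ B := by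
  have h1 : ∀ v, σ c (σ c v) = σ c v + v := fun v => by
    have h4 : σ c (σ c v) + (σ c v + v) ∈ fx σ (zpowers c) := mem_fx_zpowers.2 (by
      rw [map_add, map_add, ← rho_mul, ← rho_mul, ← pow_three', h3, rho_one]
      abel)
    exact eq_of_add (hf.le h4)
  let _ := modOf (σ c) h1
  have h2 : ∀ (g : G) (l : F4) (v : V), σ g (l • v) = l • σ g v := fun g l v => by
    have h4 : σ g (σ c v) = σ c (σ g v) := by rw [← rho_mul, ← hc, rho_mul]
    cases l
    · exact map_zero _
    · rfl
    · exact h4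
    · exact (map_add _ _ _).trans (congrArg (· + σ g v) h4)
  let τ : Representation F4 G V :=
    { toFun := fun g => ⟨⟨σ g, map_add _⟩, h2 g⟩
      map_one' := LinearMap.ext (rho_one σ)
      map_mul' := fun a b => LinearMap.ext (rho_mul σ a b) }
  have : Module.Finite F4 V := Module.Finite.of_finite
  refine ⟨F4, inferInstance, CharTwo.of_one_ne_zero_of_two_eq_zero (by decide) (by decide), inferInstance,
    inferInstance, τ, fun _ _ => rfl, fun B => ?_, fun B h a ha b hb d hd =>
      LinearMap.ext fun v => LinearMap.congr_fun (h a ha b hb d hd) v⟩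
  have h4 : ∀ {a b : ℕ}, Nat.card (ZMod 2) ^ a = Nat.card F4 ^ b → a = 2 * b := fun e => by
    rw [Nat.card_zmod, Nat.card_eq_fintype_card, show Fintype.card F4 = 2 ^ 2 from rfl, ← pow_mul] at e
    exact Nat.pow_right_injective le_rfl e
  have h5 := h4 ((Module.natCard_eq_pow_finrank (K := ZMod 2) (V := V)).symm.trans Module.natCard_eq_pow_finrank)
  have h6 := h4 ((Module.natCard_eq_pow_finrank (K := ZMod 2) (V := fx σ B)).symm.trans
    (Module.natCard_eq_pow_finrank (K := F4) (V := fx τ B)))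
  rw [cod, cod, h5, h6, Nat.mul_sub]

end Cfsg.Agent.TwoF.SpE.Suz
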