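import Cfsg.Agent.TwoF.SpE.SuzThr
import Cfsg.Agent.TwoF.SpA.Gen

/-!
# TwoF / SP: the row of the sporadic Suzuki group (helper95)
-/

set_option autoImplicit false
set_option maxHeartbeats 400000
set_option maxRecDepth 100000

namespace Cfsg.Agent.TwoF.SpE.Suz

open Cfsg Subgroup Cfsg.Agent.TwoF.Gen Cfsg.Agent.TwoF.SpD Cfsg.Agent.TwoF.XE Cfsg.Agent.TwoF.SpO Cfsg.Agent.TAB.Eng
open Cfsg.Agent.TAB.Sz
open Cfsg.Spor (Suz)
open Cfsg.Agent.SporadicRecognition.SuzOrder (card_Suz)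

/-- **the row of `Suz`** -/
theorem row (p : ℕ) [hp : Fact p.Prime] : Row p Suz := by
  have := BpSpor.SuzThreeCentral.finSuz
  by_cases h2 : p = 2
  · subst h2
    exact row_two
  by_cases h3 : p = 3
  · subst h3
    exact row_three
  have ho : ¬ p ∣ Nat.card (Out Suz) := fun e =>
    h2 ((Nat.prime_dvd_prime_iff_eq hp.out Nat.prime_two).1 (S2074.result ▸ e))
  by_cases h5 : p = 5
  · subst h5
    refine row_rank_two ho (zc_of_cyclic S2048.result) (fun E _ j h4 hj =>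
      le_antisymm (le_of_card hj (by rw [card_Suz]; norm_num)) h4) fun t ht => ?_
    obtain ⟨a, ha⟩ := exists_prod_dvd ty1 (irr_mkRows tab) ok5 ht
    refine eb_of_dvd ha (fun y hy => eb_rat (by norm_num) (by norm_num) (by norm_num) hy {1, 2, 3, 4, 5, 6, 7}
      fun j hj => ⟨j.val, 0, conj_eleven hy ?_, by simp⟩) (by decide)
    refine (Nat.Coprime.orderOf_pow ?_).trans hy
    rw [hy]
    exact (by decide : ∀ j ∈ ({1, 2, 3, 4, 5, 6, 7} : Finset (ZMod 11)), Nat.Coprime 11 j.val) j hj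
  refine SpA.row_of_card ho (card_le_of_not_dvd fun h1 => ?_)
  rw [small_of_ne h2 h3, card_Suz, show 448345497600 = 2 ^ 13 * 3 ^ 7 * 5 ^ 2 * 1001 by norm_num] at h1
  have h4 : ∀ {q : ℕ}, q.Prime → p ≠ q → ∀ n, Nat.Coprime (p ^ (1 + 1)) (q ^ n) := fun hq h n =>
    ((Nat.coprime_primes hp.out hq).2 h).pow _ _
  have h6 := (((h4 Nat.prime_two h2 13).mul_right (h4 Nat.prime_three h3 7)).mul_right
    (h4 (by norm_num) h5 2)).dvd_of_dvd_mul_left h1
  exact hp.out.one_lt.ne' (Nat.isUnit_iff.1 ((by decide +kernel : Squarefree 1001) p (by rwa [← pow_two])))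

end Cfsg.Agent.TwoF.SpE.Suz
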