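import Cfsg.Agent.TwoF.SpE.Lin
import Cfsg.Agent.TwoF.SpD.Tool
import Cfsg.Agent.Mrg.Omega.TwoF.SmallSporLB

/-!
# TwoF / SP-E: tools for `Fi22` in characteristic two (helper95)

* `noOff_two'` : the criterion `SpD.noOff_two` (helper55) for covers with a kernel of odd order;
* `eb_cfg` : the involutions of the configuration of three arms.
-/

set_option autoImplicit false
set_option maxHeartbeats 400000

namespace Cfsg.Agent.TwoF.SpE

open Cfsg Subgroup Module Cfsg.Agent.TwoF.Gen Cfsg.Agent.TwoF.SpD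
open scoped commutatorElement

section crit

variable {m n : ℕ} {S : Type} [Group S] {s : S}

theorem eb_aut {p : ℕ} [Fact p.Prime] (h : EB p m s n) (θ : MulAut S) : EB p m (θ s) n := by
  intro K _ _ π h1 h2 h3 U _ _ _ σ h4 x h5
  have e : (θ.symm.toMonoidHom.comp π).ker = π.ker := by
    ext g; simp [MonoidHom.mem_ker]
  exact h K (θ.symm.toMonoidHom.comp π) (θ.symm.surjective.comp h1) (e ▸ h2) (e ▸ h3) U σ h4 x (by simp [h5])

theorem eb_sit {p : ℕ} [hp : Fact p.Prime] {Y : Type} [Group Y] [Finite Y] {V : Type} [AddCommGroup V]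
    [Module (ZMod p) V] [Finite V] {K : Subgroup Y} {ρ : Representation (ZMod p) Y V} {π : K →* S} {φ : Y →* MulAut S}
    (h : EB p m s n) (H : Sit p K ρ π φ) (hm : HasCyclicSchurMultiplier S (p * m)) {x : K} (hx : π x = s) :
    n ≤ cod ρ (zpowers (x : Y)) := by
  have h1 := h K π H.surj H.ker_π.le (H.ker_π ▸ ((hp.out.coprime_iff_not_dvd.2 H.cop).symm).dvd_of_dvd_mul_left
    (H.toFrm.card_center_dvd' H.toStp.perfect hm)) V (ρ.comp K.subtype) (H.faithful.comp K.subtype_injective) x hx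
  rwa [cod_comp, MonoidHom.map_zpowers] at h1

theorem noOff_two' (ho : Nat.card (Out S) ∣ 2) (hm : HasCyclicSchurMultiplier S (2 * m)) (he : 2 ∣ Nat.card S)
    (h5 : ∀ t : S, orderOf t = 2 → EB 2 m t 5)
    (h : ∀ E : Subgroup S, IsElementaryAbelian 2 E → ∀ j, 0 < j → Nat.card E = 2 ^ j →
      ∃ t ∈ E, EB 2 m t (2 * j + 3)) : NoOff 2 S := by
  refine noOff_of_sit fun Y _ _ V _ _ _ K ρ π φ H A hA => ?_
  classical
  obtain ⟨r, h0, h1, h2⟩ := hA.exists_card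
  have : Finite S := Finite.of_surjective π H.surj
  have h3 := card_img H (elemAb_isPGroup hA.1)
  obtain ⟨j, hj⟩ := (elemAb_isPGroup (elemAb_img (π := π) hA.1)).exists_card_eq
  have h4 : r ≤ j + 1 := (Nat.pow_le_pow_iff_right one_lt_two).1 (by
    rw [← h1, ← h3, hj, pow_succ]
    exact Nat.mul_le_mul_left _ (Nat.le_of_dvd two_pos ((H.toFrm.relIndex_dvd A).trans ho)))
  rcases j.eq_zero_or_pos with rfl | h6
  swap
  · obtain ⟨_, ⟨x, h4, rfl⟩, h5⟩ := h _ (elemAb_img hA.1) j h6 hj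
    have h6 := (eb_sit h5 H hm rfl).trans (cod_mono (zpowers_le.2 h4))
    omega
  obtain ⟨⟨u, hu⟩, h6⟩ := ne_bot_iff_exists_ne_one.1 hA.2.1
  have h7 : u ≠ 1 := fun e => h6 (Subtype.ext e)
  have h8 := hA.1.2 u hu
  have h9 : u ∉ K := fun e => h7 (H.toStp.eq_one_of_mem_centralizer (n := 1) h8 (H.toFrm.π_eq_one_iff (x := ⟨u, e⟩).1
    (mem_bot.1 (card_eq_one.1 hj ▸ mem_map_of_mem π (show (⟨u, e⟩ : K) ∈ A.subgroupOf K from hu)))))
  have := H.normal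
  obtain ⟨P, hP⟩ := (elemAb_isPGroup hA.1).exists_le_sylow
  by_cases hi : ∀ g : Y, g * u * g⁻¹ ∈ P → g * u * g⁻¹ = u
  · obtain ⟨N, h10, h11, h12⟩ := S0215.result P u (orderOf_eq_prime h8 h7) (hP hu) hi
    rcases H.toStp.normal_cases (N := N) (by rw [normalizer_eq_top]; exact le_top) with e | e
    · exact h11.not_two_dvd_nat ((he.mul_left _).trans (H.toFrm.card_K ▸ card_dvd_of_le e))
    · refine h9 (H.cent (H.toStp.le_centralizer_of_commutator (N := A) (commutator_le.2 fun a ha g _ => ?_) hu))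
      have h13 : A = zpowers u := (eq_of_le_of_card_ge (zpowers_le.2 hu) (by
        rw [Nat.card_zpowers, orderOf_eq_prime h8 h7, h1, show r = 1 by omega, pow_one])).symm
      rw [h13, mem_zpowers_iff_mem_range_orderOf, orderOf_eq_prime h8 h7] at ha
      obtain ⟨i, hi, rfl⟩ := Finset.mem_image.1 ha
      rcases (by have := Finset.mem_range.1 hi; omega : i = 0 ∨ i = 1) with rfl | rfl
      · rw [pow_zero, commutatorElement_one_left]; exact one_mem _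
      · rw [pow_one]; exact e (h12 g)
  push Not at hi
  obtain ⟨g, h10, h11⟩ := hi
  have h12 : K.index = 2 := ((Nat.dvd_prime Nat.prime_two).1 (H.toFrm.index_dvd.trans ho)).resolve_left fun e =>
    h9 (index_eq_one.1 e ▸ mem_top u)
  have h13 : g * u * g⁻¹ * u ∈ K := (mul_mem_iff_of_index_two h12).2
    (iff_of_false (fun e => h9 (by simpa [mul_assoc] using this.conj_mem' _ e g)) h9)
  obtain ⟨e, he⟩ := P.isPGroup' ⟨_, mul_mem h10 (hP hu)⟩
  obtain ⟨l, -, hl⟩ := (Nat.dvd_prime_pow Nat.prime_two).1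
    (orderOf_dvd_of_pow_eq_one (show (g * u * g⁻¹ * u) ^ 2 ^ e = 1 from congrArg Subtype.val he))
  obtain ⟨⟨y, hy⟩, h14⟩ := exists_prime_orderOf_dvd_card' (G := zpowers (g * u * g⁻¹ * u)) 2 (by
    rw [Nat.card_zpowers, hl]
    refine dvd_pow_self 2 fun e => h11 ?_
    rw [e, pow_zero, orderOf_eq_one_iff, mul_eq_one_iff_eq_inv] at hl
    rw [hl, inv_eq_iff_mul_eq_one, ← pow_two, h8])
  rw [← orderOf_coe] at h14
  have h15 : y ^ 2 = 1 := h14 ▸ pow_orderOf_eq_one y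
  have h16 := eb_sit (h5 (π ⟨y, zpowers_le.2 h13 hy⟩) (orderOf_eq_prime (by
    rw [← map_pow, show (⟨y, _⟩ : K) ^ 2 = 1 from Subtype.ext h15, map_one]) fun e => by
      have h17 : y = 1 := H.toStp.eq_one_of_mem_centralizer (n := 1) h15 (H.toFrm.π_eq_one_iff.1 e)
      rw [show ((⟨y, hy⟩ : zpowers _) : Y) = 1 from h17, orderOf_one] at h14
      omega)) H hm rfl
  have h17 := (cod_mono (ρ := ρ) (zpowers_le.2 hy)).trans (cod_zpowers_mul_le _ _)
  have h18 := cod_mono (ρ := ρ) (zpowers_le.2 hu)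
  rw [cod_zpowers_conj] at h17
  dsimp only at h16
  omega

end crit

section cfg

open Cfsg.Agent.Omega.TwoF.FiCfg

variable {Y : Type*} [Group Y] [Finite Y] {V : Type*} [AddCommGroup V] [Module (ZMod 2) V] [Finite V]
  {ρ : Representation (ZMod 2) Y V}

/-- an involution that inverts commuting elements of order three -/
theorem inv_bound {l : List Y} {t : Y} (ht : t ^ 2 = 1) (h3 : ∀ g ∈ l, g ^ 3 = 1)
    (hc : ∀ g ∈ l, ∀ h ∈ l, g * h = h * g) (hi : ∀ g ∈ l, t * g * t⁻¹ = g⁻¹) :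
    finrank (ZMod 2) V ≤ 2 * cod ρ (zpowers t) + dl ρ l := by
  have h1 : closure {g | g ∈ l} ≤ centralizer (closure {g | g ∈ l} : Set Y) := by
    rw [centralizer_closure]
    exact (closure_le _).2 fun a ha b hb => hc b hb a ha
  have h2 : ∀ a ∈ closure {g | g ∈ l}, a ^ 3 = 1 ∧ t * a * t⁻¹ = a⁻¹ := fun a ha => by
    induction ha using closure_induction with
    | mem g hg => exact ⟨h3 g hg, hi g hg⟩
    | one => simp
    | mul a b ha hb ia ib =>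
      have e : Commute a b := h1 hb a ha
      rw [e.mul_pow, ia.1, ib.1, one_mul, ← conj_mul, ia.2, ib.2, e.eq, mul_inv_rev]
      exact ⟨rfl, rfl⟩
    | inv a _ ia => rw [inv_pow, ia.1, inv_one, ← conj_inv, ia.2]; exact ⟨rfl, rfl⟩
  have : Fact (Nat.Prime 3) := ⟨Nat.prime_three⟩
  obtain ⟨j, hj⟩ := (show IsPGroup 3 (closure {g | g ∈ l}) from
    fun g => ⟨1, Subtype.ext (h2 g g.2).1⟩).exists_card_eq
  obtain ⟨i, -, hi'⟩ := (Nat.dvd_prime_pow Nat.prime_two).1 (orderOf_dvd_of_pow_eq_one (n := 2 ^ 1) ht)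
  have h4 := coprime_bound (ρ := ρ) (R := closure {g | g ∈ l}) (A := zpowers t) (p := 2)
    (fun a ha b hb => h1 hb a ha) (by rw [hj, Nat.cast_pow]; exact pow_ne_zero _ three_ne)
    (zpowers_le.2 (mem_normalizer_fintype fun a ha => by rw [(h2 a ha).2]; exact inv_mem ha))
    (IsPGroup.of_card (by rw [Nat.card_zpowers, hi']))
  have h5 := le_cod_add (ρ := ρ) (l := l) (B := ⁅closure {g | g ∈ l}, zpowers t⁆) fun g hg => by
    have h6 := pow_mem (commutator_mem_commutator (subset_closure (k := {g | g ∈ l}) hg) (mem_zpowers t)) 2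
    rwa [commutatorElement_def, mul_assoc g, mul_assoc g, ← conj_inv, hi g hg, inv_inv, ← pow_two, ← pow_mul,
      pow_succ, h3 g hg, one_mul] at h6
  omega

variable {t : Fin 3 → Y} {σ c : Y}

omit [Finite Y] in
theorem tri_cov (h : Cov t σ c) :
    Tri c σ (fun k => Z t * c ^ (k : ℕ)) (fun k => cj σ k (X t)) fun k => cj σ k (Omega.TwoF.FiCfg.Y t) where
  c3 := h.c3
  z3 i := by rw [← h.cjZ, ← map_pow, h.z3, map_one]
  x3 i := h.xk3 i
  cen := h.cc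
  zz i j := by rw [← h.cjZ j, h.zk' j i Cov.Z_mem]
  zx i j := h.zk' j i Cov.X_mem
  zy i j := h.zk' j i Cov.Y_mem
  xx i j := by
    rcases eq_or_ne i j with rfl | e
    · rfl
    · exact h.arms e Cov.X_mem Cov.X_mem
  xy i j e := h.arms e Cov.X_mem Cov.Y_mem
  conj i := h.conjk i
  z1 := by simp
  z2 := by simp
  sz := by simpa using h.sz

theorem cov_bound (h : Cov t σ c) (hρ : Function.Injective ρ) (hz : Z t ≠ 1) :
    20 ≤ cod ρ (zpowers (cj σ 1 (t 0) * cj σ 2 (t 0))) ∧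
      24 ≤ cod ρ (zpowers (cj σ 0 (t 0) * (cj σ 1 (t 0) * cj σ 2 (t 0)))) ∧
        (cj σ 1 (t 0) * cj σ 2 (t 0)) ^ 2 = 1 ∧ (cj σ 0 (t 0) * (cj σ 1 (t 0) * cj σ 2 (t 0))) ^ 2 = 1 := by
  have T := tri_cov h
  obtain ⟨-, h1, h2⟩ := T.bound hρ (by simpa using hz)
  have i0 : (t 0)⁻¹ = t 0 := inv_eq_of_mul_eq_one_left (by rw [← pow_two, h.t2])
  have i1 : (t 1)⁻¹ = t 1 := inv_eq_of_mul_eq_one_left (by rw [← pow_two, h.t2])
  have e1 : ∀ k : ℕ, cj σ k (t 0) * cj σ k (X t) * (cj σ k (t 0))⁻¹ = (cj σ k (X t))⁻¹ := fun k => by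
    rw [← map_inv, ← map_mul, ← map_mul, ← map_inv, X, mul_inv_rev, i0, i1, ← mul_assoc, ← pow_two, h.t2, one_mul]
  have e2 : ∀ k l : Fin 3, k ≠ l → ∀ g ∈ Cov.A t, cj σ k (t 0) * cj σ l g * (cj σ k (t 0))⁻¹ = cj σ l g :=
    fun k l e g hg => by rw [(h.arms e (Cov.t_mem 0) hg).eq, mul_inv_cancel_right]
  have e3 : ∀ k : ℕ, cj σ k (t 0) ^ 2 = 1 := fun k => by rw [← map_pow, h.t2, map_one]
  have e4 : ∀ a b g : Y, a * b * g * (a * b)⁻¹ = a * (b * g * b⁻¹) * a⁻¹ := fun a b g => by group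
  have c12 : Commute (cj σ 1 (t 0)) (cj σ 2 (t 0)) := h.arms (k := 1) (l := 2) (by decide) (Cov.t_mem 0) (Cov.t_mem 0)
  have c01 : Commute (cj σ 0 (t 0)) (cj σ 1 (t 0)) := h.arms (k := 0) (l := 1) (by decide) (Cov.t_mem 0) (Cov.t_mem 0)
  have c02 : Commute (cj σ 0 (t 0)) (cj σ 2 (t 0)) := h.arms (k := 0) (l := 2) (by decide) (Cov.t_mem 0) (Cov.t_mem 0)
  have s1 : (cj σ 1 (t 0) * cj σ 2 (t 0)) ^ 2 = 1 := by rw [c12.mul_pow, e3, e3, one_mul]
  have s2 : (cj σ 0 (t 0) * (cj σ 1 (t 0) * cj σ 2 (t 0))) ^ 2 = 1 := by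
    rw [(c01.mul_right c02).mul_pow, e3, s1, one_mul]
  have a01 : _ * cj σ 1 _ * _ = cj σ 1 _ := e2 0 1 (by decide) _ (inv_mem Cov.X_mem)
  have a02 : _ * cj σ 2 _ * _ = cj σ 2 _ := e2 0 2 (by decide) _ (inv_mem Cov.X_mem)
  have a12 : _ * cj σ 2 _ * _ = cj σ 2 _ := e2 1 2 (by decide) _ (inv_mem Cov.X_mem)
  have a10 : _ * cj σ 0 _ * _ = cj σ 0 _ := e2 1 0 (by decide) _ Cov.X_mem
  have a20 : _ * cj σ 0 _ * _ = cj σ 0 _ := e2 2 0 (by decide) _ Cov.X_mem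
  have a21 : _ * cj σ 1 _ * _ = cj σ 1 _ := e2 2 1 (by decide) _ Cov.X_mem
  rw [map_inv] at a01 a02 a12
  have b1 : cj σ 1 (t 0) * cj σ 2 (t 0) * cj σ 1 (X t) * (cj σ 1 (t 0) * cj σ 2 (t 0))⁻¹ = (cj σ 1 (X t))⁻¹ :=
    (e4 _ _ _).trans ((congrArg (fun g => _ * g * _) a21).trans (e1 1))
  have b2 : cj σ 1 (t 0) * cj σ 2 (t 0) * cj σ 2 (X t) * (cj σ 1 (t 0) * cj σ 2 (t 0))⁻¹ = (cj σ 2 (X t))⁻¹ :=
    (e4 _ _ _).trans ((congrArg (fun g => _ * g * _) (e1 2)).trans a12)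
  have b0 : cj σ 1 (t 0) * cj σ 2 (t 0) * cj σ 0 (X t) * (cj σ 1 (t 0) * cj σ 2 (t 0))⁻¹ = cj σ 0 (X t) :=
    (e4 _ _ _).trans ((congrArg (fun g => _ * g * _) a20).trans a10)
  have m3 : ∀ g ∈ [cj σ 0 (X t), cj σ 1 (X t), cj σ 2 (X t)], ∃ k : Fin 3, g = cj σ k (X t) := by
    simp only [List.forall_mem_cons]
    exact ⟨⟨0, rfl⟩, ⟨1, rfl⟩, ⟨2, rfl⟩, List.forall_mem_nil _⟩
  have k3 : ∀ g ∈ [cj σ 0 (X t), cj σ 1 (X t), cj σ 2 (X t)], g ^ 3 = 1 := fun g hg => by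
    obtain ⟨k, rfl⟩ := m3 g hg
    exact T.x3 k
  have kc : ∀ g ∈ [cj σ 0 (X t), cj σ 1 (X t), cj σ 2 (X t)], ∀ f ∈ [cj σ 0 (X t), cj σ 1 (X t), cj σ 2 (X t)],
      g * f = f * g := fun g hg f hf => by
    obtain ⟨k, rfl⟩ := m3 g hg
    obtain ⟨l, rfl⟩ := m3 f hf
    exact T.xx k l
  have h3 := inv_bound (ρ := ρ) (l := [cj σ 1 (X t), cj σ 2 (X t)]) s1 (fun g hg => k3 g (List.mem_cons_of_mem _ hg))
    (fun g hg f hf => kc g (List.mem_cons_of_mem _ hg) f (List.mem_cons_of_mem _ hf))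
    (by simp only [List.forall_mem_cons]; exact ⟨b1, b2, List.forall_mem_nil _⟩)
  have h4 := inv_bound (ρ := ρ) s2 k3 kc (by
    simp only [List.forall_mem_cons, e4 (cj σ 0 (t 0)), b0, b1, b2]
    exact ⟨e1 0, a01, a02, List.forall_mem_nil _⟩)
  change 40 + dl ρ [cj σ 1 (X t), cj σ 2 (X t)] ≤ _ at h1
  change 48 + dl ρ [cj σ 0 (X t), cj σ 1 (X t), cj σ 2 (X t)] ≤ _ at h2
  exact ⟨by omega, by omega, s1, s2⟩

theorem eb_cfg {S : Type} [Group S] {t : Fin 3 → S} {σ : S} (h : Cfg t σ) (hz : Z t ≠ 1) :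
    EB 2 3 (cj σ 1 (t 0) * cj σ 2 (t 0)) 20 ∧ EB 2 3 (cj σ 0 (t 0) * (cj σ 1 (t 0) * cj σ 2 (t 0))) 24 := by
  have key : ∀ (K : Type) [Group K] [Finite K] (π : K →* S), Function.Surjective π → π.ker ≤ center K →
      Nat.card π.ker ∣ 3 → ∃ (t' : Fin 3 → K) (σ' c : K), Cov t' σ' c ∧ Z t' ≠ 1 ∧
        ∀ k, π (cj σ' k (t' 0)) = cj σ k (t 0) := fun K _ _ π h1 h2 h3 => by
    have ho : Odd (Nat.card π.ker) := Odd.of_dvd_nat (by decide) h3
    obtain ⟨t', σ₀, c, h4, -, C⟩ := h.lift h1 h2 ho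
    obtain ⟨σ', rfl⟩ := h1 σ
    have hZ : π (Z t') = Z t := by rw [map_Z]; simp only [h4]
    have hc : ∀ {a : K}, π a = 1 → ∀ g, a * g = g * a := fun ha g => (mem_center_iff.1 (h2 ha) g).symm
    refine ⟨t', σ', (Z t')⁻¹ * (σ' * Z t' * σ'⁻¹), ⟨C.t2, hc (by rw [map_pow, h.s3]), C.x3, fun i j => ?_, C.zt,
      hc ?_, by group⟩, fun e => hz (by rw [← hZ, e, map_one]), fun k => by simp only [cj_apply, map_mul, map_inv, map_pow, h4]⟩
    · exact Omega.Lie.Heis.comm_of_comm h2 ho.coprime_two_left (C.t2 i)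
        (by rw [map_mul, map_mul, map_inv, h4, h4, h.arm])
    · rw [map_mul, map_mul, map_mul, map_inv, map_inv, hZ, h.zs]
      group
  have last : ∀ (K : Type) [Group K] [Finite K] (π : K →* S), π.ker ≤ center K → Nat.card π.ker ∣ 3 → ∀ x y : K,
      π x = π y → y ^ 2 = 1 → zpowers y ≤ zpowers x := fun K _ _ π h2 h3 x y e hy => by
    obtain ⟨w, h4, h5, h6⟩ := lift_mem (r := 2) h3 (by decide) (x := x) (by rw [e, ← map_pow, hy, map_one])
    exact zpowers_le.2 (lift_unique h2 h3 (by decide) (h5.trans e) h6 hy ▸ h4)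
  constructor
  · intro K _ _ π h1 h2 h3 U _ _ _ ρ h4 x h5
    obtain ⟨t', σ', c, C, h6, h7⟩ := key K π h1 h2 h3
    obtain ⟨h8, -, h9, -⟩ := cov_bound C h4 h6
    exact h8.trans (cod_mono (last K π h2 h3 x _ (by rw [h5, map_mul, h7, h7]) h9))
  · intro K _ _ π h1 h2 h3 U _ _ _ ρ h4 x h5
    obtain ⟨t', σ', c, C, h6, h7⟩ := key K π h1 h2 h3
    obtain ⟨-, h8, -, h9⟩ := cov_bound C h4 h6
    exact h8.trans (cod_mono (last K π h2 h3 x _ (by rw [h5, map_mul, map_mul, h7, h7, h7]) h9))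

end cfg

end Cfsg.Agent.TwoF.SpE
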