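import Cfsg.Agent.TwoF.Gen.BCov
import Cfsg.Agent.TwoF.Gen.ASmall
import Cfsg.Agent.Omega.Lie.HeisCover
import Cfsg.Agent.H570.LinDim

/-!
# TwoF / SP-E: fixed spaces of commuting elements of order three (helper95)

`dl ρ l`: the dimension of the space fixed by the elements of the list `l`; `rank2`, `third`, `two_le`; `heis_cod`;
`Tri.bound`: three commuting Heisenberg groups `3 ^ (1 + 2)` with centres `z, z c, z c²`; `LB.of_sub`, `lb_of_trivial`.
-/

set_option autoImplicit false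

namespace Cfsg.Agent.TwoF.SpE

open Module Subgroup Cfsg.Agent.TwoF.Gen

section dl

variable {k : Type*} [Field k] {Y : Type*} [Group Y] {V : Type*} [AddCommGroup V] [Module k V]
  {ρ : Representation k Y V}

/-- the space fixed by a list of elements -/
def fl (ρ : Representation k Y V) (l : List Y) : Submodule k V := fx ρ (closure {g | g ∈ l})

/-- its dimension -/
noncomputable def dl (ρ : Representation k Y V) (l : List Y) : ℕ := finrank k (fl ρ l)

theorem mem_fl {l : List Y} {v : V} : v ∈ fl ρ l ↔ ∀ g ∈ l, ρ g v = v := mem_fx_closure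

theorem fl_cons (g : Y) (l : List Y) : fl ρ (g :: l) = fl ρ l ⊓ fx ρ (zpowers g) := by
  ext v
  rw [Submodule.mem_inf, mem_fl, mem_fl, mem_fx_zpowers, List.forall_mem_cons, and_comm]

theorem dl_nil : dl ρ [] = finrank k V := by
  have : fl ρ [] = ⊤ := eq_top_iff.2 fun v _ => mem_fl.2 fun g hg => absurd hg List.not_mem_nil
  rw [dl, this, finrank_top]

theorem inv_fl (l : List Y) : Inv ρ (centralizer {g | g ∈ l}) (fl ρ l) := by
  intro b hb v hv
  rw [mem_fl] at hv ⊢
  intro g hg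
  rw [← rho_mul, mem_centralizer_iff.1 hb g hg, rho_mul, hv g hg]

theorem dl_conj (q : Y) (l : List Y) : dl ρ (l.map fun g => q * g * q⁻¹) = dl ρ l := by
  have h : fl ρ (l.map fun g => q * g * q⁻¹) = (fl ρ l).map (ρ q) := by
    rw [fl, fl, ← fx_conj, MonoidHom.map_closure]
    congr 2
    ext g
    simp only [List.mem_map, Set.mem_ofPred_eq, Set.mem_image]
    rfl
  rw [dl, h, finrank_map_rho, dl]

theorem dl_conj' {q a b : Y} {l : List Y} (h : q * a * q⁻¹ = b) (hl : ∀ g ∈ l, g * q = q * g) :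
    dl ρ (b :: l) = dl ρ (a :: l) := by
  rw [← dl_conj q (a :: l), List.map_cons, h]
  congr 2
  conv_lhs => rw [← List.map_id l]
  exact List.map_congr_left fun g hg => by rw [← hl g hg, mul_inv_cancel_right, id]

variable [FiniteDimensional k V]

theorem dl_le {l l' : List Y} (h : ∀ H : Subgroup Y, (∀ g ∈ l, g ∈ H) → ∀ g ∈ l', g ∈ H) : dl ρ l ≤ dl ρ l' :=
  Submodule.finrank_mono (fx_anti ((closure_le _).2 fun g hg => h _ (fun _ hg => subset_closure hg) g hg))

theorem dl_sub {l l' : List Y} (h : l' ⊆ l) : dl ρ l ≤ dl ρ l' := dl_le fun _ hH g hg => hH g (h hg)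

theorem dl_eq {l l' : List Y} (h : l' ⊆ l) (h' : l ⊆ l') : dl ρ l = dl ρ l' := le_antisymm (dl_sub h) (dl_sub h')

theorem dl_swap (a b : Y) (l : List Y) : dl ρ (a :: b :: l) = dl ρ (b :: a :: l) :=
  dl_eq (List.Perm.swap _ _ _).subset (List.Perm.swap _ _ _).subset

theorem le_cod_add {l : List Y} {B : Subgroup Y} (h : ∀ g ∈ l, g ∈ B) : finrank k V ≤ cod ρ B + dl ρ l := by
  have h1 := cod_add (ρ := ρ) B
  have h2 : finrank k (fx ρ B) ≤ dl ρ l := Submodule.finrank_mono (fx_anti ((closure_le _).2 h))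
  omega

theorem cod_add_dl (g : Y) : cod ρ (zpowers g) + dl ρ [g] = finrank k V := by
  have h : fl ρ [g] = fx ρ (zpowers g) := by
    ext v
    rw [mem_fl, mem_fx_zpowers, List.forall_mem_singleton]
  rw [dl, h, cod_add]

theorem cod_res (l : List Y) (g : centralizer {g | g ∈ l}) :
    cod (resOn ρ (inv_fl l)) (zpowers g) + dl ρ (g :: l) = dl ρ l := by
  rw [cod_resOn, MonoidHom.map_zpowers, dl, fl_cons]
  exact codOn_add _ _

variable [Finite Y]

/-- two commuting elements of order three -/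
theorem rank2 (hk : (3 : k) ≠ 0) {l : List Y} {y z : Y} (h : y * z = z * y) (hy : y ^ 3 = 1) (hz : z ^ 3 = 1)
    (hyl : ∀ g ∈ l, g * y = y * g) (hzl : ∀ g ∈ l, g * z = z * g) :
    dl ρ l + 3 * dl ρ (y :: z :: l) = dl ρ (z :: l) + dl ρ (y :: l) + dl ρ (y * z :: l) + dl ρ (y * z ^ 2 :: l) := by
  let y' : centralizer {g | g ∈ l} := ⟨y, mem_centralizer_iff.2 hyl⟩
  let z' : centralizer {g | g ∈ l} := ⟨z, mem_centralizer_iff.2 hzl⟩
  have h1 := sum_cod_rank_two (ρ := resOn ρ (inv_fl l)) (y := y') (z := z') (Subtype.ext h) Nat.prime_three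
    (by exact_mod_cast hk) (Subtype.ext hy) (Subtype.ext hz)
  have h2 : cod (resOn ρ (inv_fl l)) (zpowers z' ⊔ zpowers y') + dl ρ (y :: z :: l) = dl ρ l := by
    rw [cod_resOn, Subgroup.map_sup, MonoidHom.map_zpowers, MonoidHom.map_zpowers, dl, fl_cons, fl_cons, inf_assoc,
      ← fx_sup]
    exact codOn_add _ _
  have h3 := cod_res (ρ := ρ) l z'
  have h4 := cod_res (ρ := ρ) l y'
  have h5 := cod_res (ρ := ρ) l (y' * z')
  have h6 := cod_res (ρ := ρ) l (y' * z' ^ 2)
  simp only [Finset.sum_range_succ, Finset.sum_range_zero, pow_zero, pow_one, mul_one, zero_add] at h1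
  have h7 : ((y' * z' : centralizer {g | g ∈ l}) : Y) = y * z := rfl
  have h8 : ((y' * z' ^ 2 : centralizer {g | g ∈ l}) : Y) = y * z ^ 2 := rfl
  have h9 : (y' : Y) = y := rfl
  have h10 : (z' : Y) = z := rfl
  rw [h7] at h5
  rw [h8] at h6
  rw [h9] at h4
  rw [h10] at h3
  omega

/-- a Heisenberg step -/
theorem third (hk : (3 : k) ≠ 0) {l : List Y} {x z q : Y} (h : x * z = z * x) (hx : x ^ 3 = 1) (hz : z ^ 3 = 1)
    (hq : q * z = z * q) (hqx : q * x * q⁻¹ = x * z) (hxl : ∀ g ∈ l, g * x = x * g) (hzl : ∀ g ∈ l, g * z = z * g)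
    (hql : ∀ g ∈ l, g * q = q * g) : dl ρ l + 3 * dl ρ (z :: x :: l) = dl ρ (z :: l) + 3 * dl ρ (x :: l) := by
  have h1 := rank2 (ρ := ρ) hk h hx hz hxl hzl
  have h2 := dl_conj' (ρ := ρ) hqx hql
  have h3 : dl ρ (x * z ^ 2 :: l) = dl ρ (x * z :: l) := dl_conj' (q := q) (by
    calc q * (x * z) * q⁻¹ = q * x * q⁻¹ * (q * z * q⁻¹) := by group
      _ = x * z ^ 2 := by rw [hqx, hq, mul_inv_cancel_right, mul_assoc, pow_two]) hql
  have h4 := dl_swap (ρ := ρ) x z l
  omega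

end dl

section two

variable {Y : Type*} [Group Y] [Finite Y] {V : Type*} [AddCommGroup V] [Module (ZMod 2) V] [Finite V]
  {ρ : Representation (ZMod 2) Y V}

theorem ord_two : orderOf (2 : ZMod 3) = 2 := by
  rw [orderOf_eq_iff (by norm_num)]
  refine ⟨by decide, fun m hm hm0 => ?_⟩
  interval_cases m
  decide

theorem three_ne : (3 : ZMod 2) ≠ 0 := by decide

theorem two_le {l : List Y} {c : Y} (hc : c ^ 3 = 1) (hcl : ∀ g ∈ l, g * c = c * g) (h : dl ρ (c :: l) ≠ dl ρ l) :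
    dl ρ (c :: l) + 2 ≤ dl ρ l := by
  let c' : centralizer {g | g ∈ l} := ⟨c, mem_centralizer_iff.2 hcl⟩
  have h1 := cod_res (ρ := ρ) l c'
  have h2 : (c' : Y) = c := rfl
  rw [h2] at h1
  have h3 : resOn ρ (inv_fl l) c' ≠ 1 := by
    intro h3
    have h4 : fx (resOn ρ (inv_fl l)) (zpowers c') = ⊤ := by
      rw [fx_eq_top_iff, zpowers_le]
      exact h3
    have h5 := cod_add (ρ := resOn ρ (inv_fl l)) (zpowers c')
    rw [h4, finrank_top] at h5
    omega
  have h4 := ord_le_cod_zpowers (ρ := resOn ρ (inv_fl l)) (z := c') Nat.prime_three (Subtype.ext hc)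
    (by exact_mod_cast three_ne) h3
  rw [ZMod.card, Nat.cast_ofNat, ord_two] at h4
  omega

omit [Finite Y] in
theorem dl_ne {z : Y} (h : ρ z ≠ 1) : dl ρ [z] ≠ dl ρ [] := by
  intro h1
  rw [dl_nil] at h1
  apply h
  ext v
  exact mem_fl.1 ((Submodule.eq_top_of_finrank_eq h1).ge Submodule.mem_top) z List.mem_cons_self

omit [Finite Y] in
/-- the Heisenberg bound for `[V, z]` -/
theorem heis_cod {n : ℕ} {z : Y} {x y : Fin n → Y} (h : Omega.Lie.Heis.Heis 3 n z x y) (hz : ρ z ≠ 1) :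
    2 * 3 ^ n ≤ cod ρ (zpowers z) := by
  have hH : centralizer {z} ≤ normalizer (zpowers z : Set Y) := fun g hg =>
    centralizer_le_normalizer _ (by
      rw [mem_centralizer_iff] at hg ⊢
      rintro _ ⟨m, rfl⟩
      exact ((show Commute z g from hg z rfl).zpow_left m).eq)
  have hU : Inv ρ (centralizer {z}) (cm ρ ⊤ (zpowers z)) := inv_cm hH (inv_top _)
  let z' : centralizer {z} := ⟨z, mem_centralizer_singleton_iff.2 rfl⟩
  have h1 : Omega.Lie.Heis.Heis 3 n z' (fun i => ⟨x i, mem_centralizer_singleton_iff.2 (h.zx i).symm⟩)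
      (fun i => ⟨y i, mem_centralizer_singleton_iff.2 (h.zy i).symm⟩) :=
    ⟨h.prime, Subtype.ext h.zr, fun i => Subtype.ext (h.xr i), fun i => Subtype.ext (h.zx i),
      fun i => Subtype.ext (h.zy i), fun i j => Subtype.ext (h.xx i j), fun i j hij => Subtype.ext (h.yx i j hij),
      fun i => Subtype.ext (h.conj i)⟩
  have h2 : resOn ρ hU z' ≠ 1 := by
    intro h2
    apply hz
    ext v
    refine eq_of_sub_one_sq (p := 2) h.zr (by norm_num) ?_
    exact congrArg Subtype.val (LinearMap.congr_fun h2 ⟨_, mem_cm (mem_zpowers z) Submodule.mem_top⟩)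
  have h3 := h1.finrank_le (resOn ρ hU) (by exact_mod_cast three_ne) h2
  rwa [Nat.card_zmod, Nat.cast_ofNat, ord_two, ← cod_zpowers_eq_cm] at h3

/-- three commuting Heisenberg groups with the centres `z, z c, z c²` -/
structure Tri (c σ : Y) (z x y : Fin 3 → Y) : Prop where
  c3 : c ^ 3 = 1
  z3 : ∀ i, z i ^ 3 = 1
  x3 : ∀ i, x i ^ 3 = 1
  cen : ∀ g, c * g = g * c
  zz : ∀ i j, z i * z j = z j * z i
  zx : ∀ i j, z i * x j = x j * z i
  zy : ∀ i j, z i * y j = y j * z i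
  xx : ∀ i j, x i * x j = x j * x i
  xy : ∀ i j, i ≠ j → x i * y j = y j * x i
  conj : ∀ i, y i * x i * (y i)⁻¹ = x i * z i
  z1 : z 1 = z 0 * c
  z2 : z 2 = z 0 * c ^ 2
  sz : σ * z 0 * σ⁻¹ = z 1

namespace Tri

variable {c σ : Y} {z x y : Fin 3 → Y}

omit [Finite Y] in
theorem dl_zz (h : Tri c σ z x y) {i j : Fin 3} (hij : i ≠ j) (l : List Y) :
    dl ρ (z j :: z i :: l) = dl ρ (c :: z i :: l) := by
  have e0 : ∀ i, ∃ n : ℕ, z i = z 0 * c ^ n := by
    intro i
    fin_cases i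
    · exact ⟨0, by simp⟩
    · exact ⟨1, by simpa using h.z1⟩
    · exact ⟨2, h.z2⟩
  have c2 : (c ^ 2)⁻¹ = c := by rw [inv_eq_iff_mul_eq_one, ← pow_succ, h.c3]
  have e1 : c = (z 0)⁻¹ * z 1 := by rw [h.z1, inv_mul_cancel_left]
  have e2 : c = ((z 0)⁻¹ * z 2)⁻¹ := by rw [h.z2, inv_mul_cancel_left, c2]
  have e3 : c = (z 1)⁻¹ * z 2 := by rw [h.z1, h.z2]; group
  refine le_antisymm (dl_le fun H hH g hg => ?_) (dl_le fun H hH g hg => ?_)
  · rcases List.mem_cons.1 hg with rfl | hg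
    · have h1 := hH _ List.mem_cons_self
      have h2 := hH _ (List.mem_cons_of_mem _ List.mem_cons_self)
      fin_cases i <;> fin_cases j
      · exact absurd rfl hij
      · exact e1 ▸ mul_mem (inv_mem h2) h1
      · exact e2 ▸ inv_mem (mul_mem (inv_mem h2) h1)
      · exact e1 ▸ mul_mem (inv_mem h1) h2
      · exact absurd rfl hij
      · exact e3 ▸ mul_mem (inv_mem h2) h1
      · exact e2 ▸ inv_mem (mul_mem (inv_mem h1) h2)
      · exact e3 ▸ mul_mem (inv_mem h1) h2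
      · exact absurd rfl hij
    · exact hH _ (List.mem_cons_of_mem _ hg)
  · rcases List.mem_cons.1 hg with rfl | hg
    · have h1 := hH _ List.mem_cons_self
      have h2 := hH _ (List.mem_cons_of_mem _ List.mem_cons_self)
      obtain ⟨n, hn⟩ := e0 i
      obtain ⟨m, hm⟩ := e0 j
      rw [hn] at h2
      rw [hm]
      exact mul_mem ((mul_mem_cancel_right (pow_mem h1 n)).1 h2) (pow_mem h1 m)
    · exact hH _ (List.mem_cons_of_mem _ hg)

theorem step (h : Tri c σ z x y) (j : Fin 3) {l : List Y} (hl : ∀ g ∈ l, (∃ i, g = z i) ∨ ∃ i, i ≠ j ∧ g = x i) :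
    dl ρ l + 3 * dl ρ (z j :: x j :: l) = dl ρ (z j :: l) + 3 * dl ρ (x j :: l) := by
  refine third three_ne (h.zx j j).symm (h.x3 j) (h.z3 j) (h.zy j j).symm (h.conj j) (fun g hg => ?_)
    (fun g hg => ?_) (fun g hg => ?_) <;> rcases hl g hg with ⟨i, rfl⟩ | ⟨i, hi, rfl⟩
  · exact h.zx _ _
  · exact h.xx _ _
  · exact h.zz _ _
  · exact (h.zx _ _).symm
  · exact h.zy _ _
  · exact h.xy _ _ hi

/-- the step on the fixed space of `z i` -/
theorem step' (h : Tri c σ z x y) {i j : Fin 3} (hij : i ≠ j) {l : List Y} (hl : ∀ g ∈ l, ∃ m, m ≠ j ∧ g = x m) :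
    dl ρ (z i :: l) + 3 * dl ρ (c :: z i :: x j :: l) = dl ρ (c :: z i :: l) + 3 * dl ρ (z i :: x j :: l) := by
  have h1 := h.step (ρ := ρ) j (l := z i :: l) fun g hg =>
    (List.mem_cons.1 hg).elim (fun e => Or.inl ⟨i, e⟩) fun hg => Or.inr (hl g hg)
  have h2 := h.dl_zz (ρ := ρ) hij l
  have h3 := h.dl_zz (ρ := ρ) hij (x j :: l)
  have h4 := dl_swap (ρ := ρ) (x j) (z i) l
  have h5 : dl ρ (z j :: x j :: z i :: l) = dl ρ (z j :: z i :: x j :: l) :=
    dl_eq ((List.Perm.swap _ _ _).cons _).subset ((List.Perm.swap _ _ _).cons _).subset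
  omega

theorem split (h : Tri c σ z x y) {l : List Y} (hl : ∀ g ∈ l, ∃ m, g = x m) :
    dl ρ l + dl ρ (c :: z 0 :: l) + dl ρ (c :: z 1 :: l) + dl ρ (c :: z 2 :: l) =
      dl ρ (c :: l) + dl ρ (z 0 :: l) + dl ρ (z 1 :: l) + dl ρ (z 2 :: l) := by
  have h1 := rank2 (ρ := ρ) three_ne (l := l) (h.cen (z 0)).symm (h.z3 0) h.c3
    (fun g hg => by obtain ⟨m, rfl⟩ := hl g hg; exact (h.zx _ _).symm) (fun g _ => (h.cen g).symm)
  rw [← h.z1, ← h.z2] at h1
  have h2 := h.dl_zz (ρ := ρ) (i := 0) (j := 1) (by decide) l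
  have h3 := h.dl_zz (ρ := ρ) (i := 1) (j := 0) (by decide) l
  have h4 := h.dl_zz (ρ := ρ) (i := 0) (j := 2) (by decide) l
  have h5 := h.dl_zz (ρ := ρ) (i := 2) (j := 0) (by decide) l
  have h6 := dl_swap (ρ := ρ) (z 0) (z 1) l
  have h7 := dl_swap (ρ := ρ) (z 0) (z 2) l
  have h8 := dl_swap (ρ := ρ) (z 0) c l
  omega

/-- the space fixed by `z i` and the elements `x j`, `x m` of the other arms -/
theorem nine (h : Tri c σ z x y) {i j m : Fin 3} (hij : i ≠ j) (him : i ≠ m) (hjm : j ≠ m) :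
    dl ρ [z i] + 3 * dl ρ [c, z i, x j] = dl ρ [c, z i] + 3 * dl ρ [z i, x j] ∧
      dl ρ [z i] + 9 * dl ρ [c, z i, x m, x j] = dl ρ [c, z i] + 9 * dl ρ [z i, x m, x j] := by
  have h1 := h.step' (ρ := ρ) hij (l := []) fun g hg => absurd hg List.not_mem_nil
  have h2 := h.step' (ρ := ρ) him (l := [x j]) fun g hg => ⟨j, hjm, List.mem_singleton.1 hg⟩
  omega

omit [Finite Y] in
/-- more fixed elements: the part moved by `c` gets smaller -/
theorem mono {l l' : List Y} (h : l ⊆ l') : dl ρ l' + dl ρ (c :: l) ≤ dl ρ l + dl ρ (c :: l') := by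
  have h1 : fl ρ l' ⊔ fl ρ (c :: l) ≤ fl ρ l :=
    sup_le (fun v hv => mem_fl.2 fun g hg => mem_fl.1 hv g (h hg))
      fun v hv => mem_fl.2 fun g hg => mem_fl.1 hv g (List.mem_cons_of_mem _ hg)
  have h2 : fl ρ l' ⊓ fl ρ (c :: l) ≤ fl ρ (c :: l') := fun v hv => mem_fl.2 fun g hg =>
    (List.mem_cons.1 hg).elim (fun e => e ▸ mem_fl.1 hv.2 c List.mem_cons_self) fun hg => mem_fl.1 hv.1 g hg
  have h3 := Submodule.finrank_sup_add_finrank_inf_eq (fl ρ l') (fl ρ (c :: l))
  have h4 := Submodule.finrank_mono h1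
  have h5 := Submodule.finrank_mono h2
  unfold dl
  omega

/-- **the bounds** -/
theorem bound (h : Tri c σ z x y) (hρ : Function.Injective ρ) (hz : z 0 ≠ 1) :
    54 ≤ finrank (ZMod 2) V ∧ 40 + dl ρ [x 1, x 2] ≤ finrank (ZMod 2) V ∧
      48 + dl ρ [x 0, x 1, x 2] ≤ finrank (ZMod 2) V := by
  rw [← dl_nil (ρ := ρ)]
  have hne : ∀ g : Y, g ≠ 1 → dl ρ [g] ≠ dl ρ [] := fun g hg => dl_ne fun e => hg (hρ (e.trans (map_one ρ).symm))
  by_cases hc : c = 1
  · have e1 : z 1 = z 0 := by rw [h.z1, hc, mul_one]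
    have e2 : z 2 = z 0 := by rw [h.z2, hc, one_pow, mul_one]
    have h1 := h.step (ρ := ρ) 2 (l := []) fun g hg => absurd hg List.not_mem_nil
    have h2 := h.step (ρ := ρ) 1 (l := [x 2]) fun g hg => Or.inr ⟨2, by decide, List.mem_singleton.1 hg⟩
    have h3 := h.step (ρ := ρ) 0 (l := [x 1, x 2]) fun g hg => Or.inr
      ((List.mem_cons.1 hg).elim (fun e => ⟨1, by decide, e⟩) fun hg => ⟨2, by decide, List.mem_singleton.1 hg⟩)
    rw [e2] at h1
    rw [e1] at h2
    have h4 := hne _ hz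
    have h5 := two_le (ρ := ρ) (l := [x 0, x 1, x 2]) (h.z3 0) (fun g hg => by
      simp only [List.mem_cons, List.not_mem_nil, or_false] at hg
      rcases hg with rfl | rfl | rfl <;> exact (h.zx _ _).symm) (by omega)
    have h6 : dl ρ [z 0, x 1, x 2] ≤ dl ρ [z 0] := dl_sub (by simp)
    have h7 : dl ρ [z 0, x 0, x 1, x 2] ≤ dl ρ [z 0] := dl_sub (by simp)
    omega
  · have s0 := h.split (ρ := ρ) (l := []) fun g hg => absurd hg List.not_mem_nil
    have s2 := h.split (ρ := ρ) (l := [x 1, x 2]) fun g hg =>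
      (List.mem_cons.1 hg).elim (fun e => ⟨1, e⟩) fun hg => ⟨2, List.mem_singleton.1 hg⟩
    have s3 := h.split (ρ := ρ) (l := [x 0, x 1, x 2]) fun g hg => (List.mem_cons.1 hg).elim (fun e => ⟨0, e⟩)
      fun hg => (List.mem_cons.1 hg).elim (fun e => ⟨1, e⟩) fun hg => ⟨2, List.mem_singleton.1 hg⟩
    have a1 : dl ρ [z 1] = dl ρ [z 0] := dl_conj' h.sz fun g hg => absurd hg List.not_mem_nil
    have a2 : dl ρ [z 2] = dl ρ [z 1] := dl_conj' (q := σ) (by
      calc σ * z 1 * σ⁻¹ = σ * z 0 * σ⁻¹ * (σ * c * σ⁻¹) := by rw [h.z1]; group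
        _ = z 2 := by rw [h.sz, ← h.cen, mul_inv_cancel_right, h.z1, h.z2, mul_assoc, pow_two])
      fun g hg => absurd hg List.not_mem_nil
    have a3 := h.dl_zz (ρ := ρ) (i := 0) (j := 1) (by decide) []
    have a4 := h.dl_zz (ρ := ρ) (i := 1) (j := 0) (by decide) []
    have a5 := h.dl_zz (ρ := ρ) (i := 0) (j := 2) (by decide) []
    have a6 := h.dl_zz (ρ := ρ) (i := 2) (j := 0) (by decide) []
    have a7 := dl_swap (ρ := ρ) (z 0) (z 1) []
    have a8 := dl_swap (ρ := ρ) (z 0) (z 2) []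
    have n0 := (h.nine (ρ := ρ) (i := 0) (j := 2) (m := 1) (by decide) (by decide) (by decide)).2
    obtain ⟨n1, n1'⟩ := h.nine (ρ := ρ) (i := 1) (j := 2) (m := 0) (by decide) (by decide) (by decide)
    obtain ⟨n2, n2'⟩ := h.nine (ρ := ρ) (i := 2) (j := 1) (m := 0) (by decide) (by decide) (by decide)
    have m1 := mono (ρ := ρ) (c := c) (l := [z 1, x 2]) (l' := [z 1, x 1, x 2]) (by simp)
    have m2 := mono (ρ := ρ) (c := c) (l := [z 2, x 1]) (l' := [z 2, x 1, x 2]) (by simp)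
    have m3 := mono (ρ := ρ) (c := c) (l := [z 0, x 1, x 2]) (l' := [z 0, x 0, x 1, x 2]) (by simp)
    have m4 := mono (ρ := ρ) (c := c) (l := [z 1, x 0, x 2]) (l' := [z 1, x 0, x 1, x 2]) (by simp)
    have m5 := mono (ρ := ρ) (c := c) (l := [z 2, x 0, x 1]) (l' := [z 2, x 0, x 1, x 2]) (by simp)
    have h4 := hne _ hc
    have h5 := two_le (ρ := ρ) (l := [z 0, x 1, x 2]) h.c3 (fun g _ => (h.cen g).symm) (by omega)
    have h6 : dl ρ [c, x 1, x 2] ≤ dl ρ [c] := dl_sub (by simp)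
    have h7 : dl ρ [c, x 0, x 1, x 2] ≤ dl ρ [c] := dl_sub (by simp)
    omega

end Tri

end two

section lb

variable {p : ℕ} [Fact p.Prime] {S H : Type} [Group S] [Group H] {d : ℕ}

/-- the bound of a perfect subgroup with trivial centre -/
theorem LB.of_sub (f : H →* S) (hf : Function.Injective f) (hH : commutator H = ⊤) (hZ : center H = ⊥)
    (h : LB p H d) : LB p S d := by
  intro K _ _ π _ hπ hk hp U _ _ _ σ hσ
  let P : Subgroup K := f.range.comap π
  let e := MonoidHom.ofInjective hf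
  let τ : P →* H := e.symm.toMonoidHom.comp ((π.comp P.subtype).codRestrict f.range fun x => x.2)
  have hτ : ∀ x : P, f (τ x) = π x := fun x => congrArg Subtype.val (e.apply_symm_apply ⟨π x, x.2⟩)
  have hs : Function.Surjective τ := fun y => by
    obtain ⟨x, hx⟩ := hπ (f y)
    exact ⟨⟨x, y, hx.symm⟩, hf ((hτ _).trans hx)⟩
  have hc : ∀ x : P, τ x = 1 → (x : K) ∈ center K := fun x hx => by
    rw [← hk, MonoidHom.mem_ker, ← hτ, hx, map_one]
  have hc' : τ.ker ≤ center P := fun x hx => mem_center_iff.2 fun g =>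
    Subtype.ext (mem_center_iff.1 (hc x hx) g)
  obtain ⟨hperf, hs'⟩ := H570.LinDim.commutator_eq_top_of_central hH hs hc'
  have hker : (τ.comp (commutator P).subtype).ker = center (commutator P) := by
    apply le_antisymm
    · exact fun x hx => mem_center_iff.2 fun g => Subtype.ext (mem_center_iff.1 (hc' hx) g)
    · intro x hx
      rw [MonoidHom.mem_ker, ← mem_bot, ← hZ, mem_center_iff]
      intro g
      obtain ⟨g, rfl⟩ := hs' g
      rw [← map_mul, ← map_mul, mem_center_iff.1 hx g]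
  refine h (commutator P) (τ.comp (commutator P).subtype) ⟨hperf⟩ hs' hker (fun hd => hp (hd.trans ?_)) U
    (σ.comp (P.subtype.comp (commutator P).subtype))
    (hσ.comp (P.subtype_injective.comp (commutator P).subtype_injective))
  refine card_dvd_of_injective (((P.subtype.comp (commutator P).subtype).comp (center _).subtype).codRestrict (center K)
    fun x => hc _ (hker.ge x.2)) fun a b hab => ?_
  have h1 := congrArg Subtype.val hab
  exact Subtype.ext (Subtype.ext (Subtype.ext h1))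

/-- the multiplier has no `p'`-part -/
theorem lb_of_faithful {n : ℕ} (hm : HasCyclicSchurMultiplier S n) (hn : ∀ m, m ∣ n → ¬ p ∣ m → m = 1)
    (h : ∀ (U : Type) [AddCommGroup U] [Module (ZMod p) U] [Finite U] (σ : Representation (ZMod p) S U),
      Function.Injective σ → d ≤ finrank (ZMod p) U) : LB p S d := by
  intro K _ _ π hK hπ hk hp U _ _ _ σ hσ
  have h1 : IsStemExtension π := ⟨hπ, hk.le, by rw [hK.commutator_eq_top]; exact le_top⟩
  obtain ⟨f, hf⟩ := hm.2 K π h1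
  have h2 := card_dvd_of_surjective f hf
  rw [Nat.card_congr Multiplicative.toAdd, Nat.card_zmod] at h2
  have h3 : Function.Injective π := by
    rw [← MonoidHom.ker_eq_bot_iff, ← card_eq_one]
    exact hn _ h2 (hk ▸ hp)
  let e := MulEquiv.ofBijective π ⟨h3, hπ⟩
  exact h U (σ.comp e.symm.toMonoidHom) (hσ.comp e.symm.injective)

end lb

end Cfsg.Agent.TwoF.SpE
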