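import Cfsg.Agent.TwoF.SpE.Wt
import Cfsg.Agent.TwoF.SpE.Lin
import Cfsg.Agent.TwoF.XE.Bridge
import Cfsg.Agent.KFacts.FiTTh.BasFi
import Cfsg.Agent.R08.FiTwentyThree
import Cfsg.Agent.H95.StemCover
import Cfsg.Agent.H293.FF.LbkFi
import Cfsg.Agent.H444.EP.Mon
import Cfsg.Agent.S2053
import Cfsg.Agent.S2054
import Cfsg.Agent.S2055
import Cfsg.Agent.S2058
import Cfsg.Agent.S2079
import Cfsg.Agent.S2080
import Cfsg.Agent.S2081
import Cfsg.Agent.S2084

/-!
# TwoF / SP-E: `Fi22, Fi23, Fi24', B, M` in odd characteristic (helper95)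
-/

set_option autoImplicit false
set_option exponentiation.threshold 5000

namespace Cfsg.Agent.TwoF.SpE

open Module Subgroup Cfsg Cfsg.Spor Cfsg.Agent.TwoF.XE Cfsg.Agent.KFacts.FiTTh
open Cfsg.Agent.Omega.TwoF.RowFi (card_fi22 card_fi23 card_fi24 finite_fi22 finite_fi23 finite_fi24 center_fi23)
open Cfsg.Agent.Fischer.Fi23Class (K)
open Cfsg.Agent.R08.FiTwentyThree (pi zK pi_ker pi_surjective)

theorem perfect23 : commutator Fi23 = ⊤ := Fischer.Fi23Final.commutator_top

theorem pi_cen : pi.ker ≤ center K := fun x hx => by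
  rcases (pi_ker x).1 hx with rfl | rfl
  · exact one_mem _
  · exact mem_center_iff.2 fun g => (R08.FiTwentyThree.central g).symm

theorem perfect22 : commutator Fi22 = ⊤ := by
  have h := map_commutator_eq K pi
  rw [R08.FiTwentyThree.perfect, ← MonoidHom.range_eq_map, MonoidHom.range_eq_top.2 pi_surjective] at h
  exact h.symm

/-- the universal cover of `Fi22` over the centraliser `K` of a transposition of `Fi23` -/
theorem exists_univ : ∃ (Γ : Type) (_ : Group Γ) (_ : Finite Γ) (ψ : Γ →* K), Function.Surjective ψ ∧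
    ψ.ker ≤ center Γ ∧ Odd (Nat.card ψ.ker) ∧ ∀ (P : Type) [Group P] [Finite P] (π : P →* Fi22), commutator P = ⊤ →
      Function.Surjective π → π.ker ≤ center P → ∃ φ : Γ →* P, Function.Surjective φ ∧ ∀ x, π (φ x) = pi (ψ x) := by
  have := finite_fi22
  have := finite_fi23
  obtain ⟨Γ, _, _, σ, hσ, ⟨e⟩⟩ := S2053.result.1
  have hc := Nat.card_congr e.toEquiv
  obtain ⟨ψ, h1, h2⟩ := H95.StemCover.exists_cover' perfect22 S2053.result σ hσ hc R08.FiTwentyThree.perfect pi
    pi_surjective pi_cen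
  refine ⟨Γ, inferInstance, inferInstance, ψ, h1, fun x hx => hσ.2.1 ?_, ?_, fun P _ _ π hP hs hk => ?_⟩
  · rw [MonoidHom.mem_ker, ← h2, MonoidHom.mem_ker.1 hx, map_one]
  · have h3 := card_mul_index σ.ker
    have h4 := card_mul_index ψ.ker
    rw [index_ker, MonoidHom.range_eq_top.2 hσ.1, card_top, card_fi22, hc, Nat.card_congr Multiplicative.toAdd,
      Nat.card_zmod] at h3
    rw [index_ker, MonoidHom.range_eq_top.2 h1, card_top, Cent.card_K] at h4
    have h5 : Nat.card ψ.ker = 3 := by omega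
    rw [h5]
    decide
  · obtain ⟨φ, h3, h4⟩ := H95.StemCover.exists_cover' perfect22 S2053.result σ hσ hc hP π hs hk
    exact ⟨φ, h3, fun x => by rw [h4, h2]⟩

variable {p : ℕ} [Fact p.Prime]

theorem two_ne (hp : p ≠ 2) : (2 : ZMod p) ≠ 0 := by
  exact_mod_cast cast_ne_zero (p := p) Nat.prime_two hp.symm

theorem lb23_odd (hp : p ≠ 2) : LB p Fi23 161 := by
  refine lb_of_faithful S2054.result (fun m hm _ => Nat.dvd_one.1 hm) fun U _ _ _ σ hσ => ?_
  obtain ⟨S, h1, h2, h3, h4⟩ := (Sys.of_pre (F := {none}) BasFi.pre (Finset.mem_singleton_self _)).bound (ρ := σ)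
    (two_ne hp) (p0 := some 0) fun h => BasFi.e_ne_one 0 (hσ (h.trans (map_one σ).symm))
  exact (orb23 h1 h2 h3).trans h4

theorem lb22_odd (hp : p ≠ 2) : LB p Fi22 77 := by
  intro P _ _ π hP hπ hk _ U _ _ _ σ hσ
  obtain ⟨Γ, _, _, ψ, h1, h2, h3, h4⟩ := exists_univ
  obtain ⟨φ, -, h5⟩ := h4 P π hP.commutator_eq_top hπ hk.le
  have Y := (Sys.of_pre (F := {none, some 13}) BasFi.pre (Finset.mem_insert_self _ _)).res (z := some 13) (by simp)
    (H := K) fun g hg => (Cent.mem_K_iff g).2 (by rwa [BasFi.e_z] at hg)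
  obtain ⟨f, hf, hf'⟩ := Y.lift h1 h2 h3
  obtain ⟨S, s1, s2, s3, s4⟩ := hf.bound (ρ := σ.comp φ) (two_ne hp) (p0 := some 0) fun h => by
    have h6 : φ (f (some 0)) = 1 := hσ (h.trans (map_one σ).symm)
    have h7 := h5 (f (some 0))
    rw [h6, map_one, hf'] at h7
    rcases (pi_ker _).1 h7.symm with h8 | h8
    · exact BasFi.e_ne_one 0 (congrArg Subtype.val h8)
    · have h9 : BasFi.e (some 0) = BasFi.e (some 13) := (congrArg Subtype.val h8).trans BasFi.e_z.symm
      exact absurd (BasFi.e_inj h9) (by decide)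
  exact (orb22 (by decide) s1 s2 s3).trans s4

theorem LB.fi24 {d : ℕ} (h : LB p Fi23 d) : LB p Fi24' d :=
  LB.of_sub H293.FF.LbkFi.ph' H293.FF.LbkFi.ph'_injective perfect23 center_fi23 h

theorem LB.baby {d : ℕ} (h : LB p Fi23 d) : LB p BabyMonster d := by
  obtain ⟨f, hf⟩ := H54.Kill.B.exists_hom
  exact LB.of_sub f hf perfect23 center_fi23 h

theorem lt_pow_odd (hp : p ≠ 2) {x d : ℕ} (h : x < 3 ^ d) : x < p ^ d :=
  h.trans_le (Nat.pow_le_pow_left (by have := (Fact.out : p.Prime).two_le; omega) d)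

theorem finite_b : Finite BabyMonster := Nat.finite_of_card_ne_zero (by rw [BM.KHAll.card_B]; norm_num)

theorem finite_m : Finite Monster := Nat.finite_of_card_ne_zero (by rw [H444.EP.Mon.card_M]; norm_num)

theorem odd22 (hp : p ≠ 2) : NoOff p Fi22 :=
  haveI := finite_fi22
  noOff_of_lb' (lb22_odd hp) S2053.result (by norm_num) card_fi22.le S2079.result.le (lt_pow_odd hp (by norm_num))

theorem odd23 (hp : p ≠ 2) : NoOff p Fi23 :=
  haveI := finite_fi23
  noOff_of_lb' (lb23_odd hp) S2054.result (by norm_num) card_fi23.le S2080.result.le (lt_pow_odd hp (by norm_num))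

theorem odd24 (hp : p ≠ 2) : NoOff p Fi24' :=
  haveI := finite_fi24
  noOff_of_lb' (LB.fi24 (lb23_odd hp)) S2055.result (by norm_num) card_fi24.le S2081.result.le
    (lt_pow_odd hp (by norm_num))

theorem oddB (hp : p ≠ 2) : NoOff p BabyMonster :=
  haveI := finite_b
  noOff_of_lb' (LB.baby (lb23_odd hp)) S2058.result (by norm_num) BM.KHAll.card_B.le S2084.result.le
    (lt_pow_odd hp (by norm_num))

theorem oddM (hp : p ≠ 2) : NoOff p Monster :=
  haveI := finite_m
  haveI := H444.EP.Mon.simple_M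
  noOff_of_ls' (H444.EP.Mon.ls_two.mono (d' := 400) (by norm_num)) Nat.prime_two hp.symm S2059.result (by norm_num)
    H444.EP.Mon.card_M.le S2085.result.le (lt_pow_odd hp (by norm_num))

end Cfsg.Agent.TwoF.SpE
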