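import Cfsg.Agent.TwoF.SpE.F22A
import Cfsg.Agent.TwoF.SpE.Odd
import Cfsg.Agent.TAB.F22.Fam
import Cfsg.Agent.Classification.BSW.CharTools
import Cfsg.Agent.Mrg.Omega.Quasithin.Row.E27

/-!
# TwoF / SP-E: `Fi22` in characteristic two (helper95)
-/

set_option autoImplicit false
set_option maxRecDepth 100000

namespace Cfsg.Agent.TwoF.SpE

open Cfsg Cfsg.Spor Subgroup Cfsg.Agent.TwoF.SpD Cfsg.Agent.TAB.F22 Cfsg.Agent.TAB.Eng
open Cfsg.Agent.Classification.BSW.CharTools (exists_sum_eq)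

theorem ty_two {g : Fi22} (h : g ^ 2 = 1) : ty g < 4 := by
  have h1 : ∀ t < 59, dat.ord t ∣ 2 → t < 4 := by decide +kernel
  exact h1 _ (ty_lt g) (ty_ord g ▸ orderOf_dvd_of_pow_eq_one h)

theorem ty_zero {g : Fi22} : ty g = 0 ↔ g = 1 :=
  ⟨fun h => orderOf_eq_one_iff.1 (by rw [ty_ord, h]; rfl), fun h => h ▸ ty_one⟩

theorem cnt (E : Subgroup Fi22) [Fintype E] (hE : ∀ g ∈ E, g ^ 2 = 1) : ∃ N : ℕ → ℕ, N 0 = 1 ∧
    (∀ i, N i ≠ 0 → ∃ t ∈ E, ty t = i) ∧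
      ∀ f : ℕ → ℤ, ∑ g : E, f (ty g) = N 0 * f 0 + N 1 * f 1 + N 2 * f 2 + N 3 * f 3 := by
  classical
  refine ⟨fun i => (Finset.univ.filter fun g : E => ty g = i).card, Finset.card_eq_one.2 ⟨1, ?_⟩, fun i h => ?_,
    fun f => ?_⟩
  · ext g
    simp [ty_zero]
  · obtain ⟨g, hg⟩ := Finset.card_ne_zero.1 h
    exact ⟨g, g.2, (Finset.mem_filter.1 hg).2⟩
  · rw [← Finset.sum_fiberwise_of_maps_to (t := Finset.range 4) (g := fun g : E => ty g)
      fun g _ => Finset.mem_range.2 (ty_two (hE g g.2))]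
    have h1 : ∀ i, ∑ g ∈ Finset.univ.filter (fun g : E => ty g = i), f (ty g) =
        (Finset.univ.filter fun g : E => ty g = i).card * f i := fun i => by
      rw [Finset.sum_congr rfl fun g hg => congrArg f (Finset.mem_filter.1 hg).2, Finset.sum_const, nsmul_eq_mul]
    simp only [h1, Finset.sum_range_succ, Finset.range_zero, Finset.sum_empty, zero_add]

theorem virt_dvd (E : Subgroup Fi22) [Fintype E] {f : ℕ → ℤ} (h : Virt td f) :
    (Nat.card E : ℤ) ∣ ∑ g : E, f (ty g) := by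
  have := fin22
  obtain ⟨χ, ψ, h1, h2, h3⟩ := h
  obtain ⟨a, ha⟩ := exists_sum_eq h1 E
  obtain ⟨b, hb⟩ := exists_sum_eq h2 E
  refine ⟨a - b, Int.cast_injective (α := ℂ) ?_⟩
  push_cast
  rw [mul_sub, ← ha, ← hb, ← Finset.sum_sub_distrib]
  exact Finset.sum_congr rfl fun g _ => congrFun h3 g

theorem elem_cases {E : Subgroup Fi22} (hE : ∀ g ∈ E, g ^ 2 = 1) {j : ℕ} (h0 : 0 < j) (hj : Nat.card E = 2 ^ j) :
    ∃ t ∈ E, (ty t = 1 ∧ j ≤ 10) ∨ (ty t = 2 ∧ j ≤ 8) ∨ (ty t = 3 ∧ j ≤ 1) := by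
  have := fin22
  have := Fintype.ofFinite E
  obtain ⟨N, h1, h2, h3⟩ := cnt E hE
  have vc : Virt td (nth vC) := virt_seeds _ (by simp [seeds])
  have d1 := virt_dvd E vc
  have d2 := virt_dvd E (virt_seeds vF (by simp [seeds]))
  have d3 := virt_dvd E (vc.mul vc)
  have d4 := virt_dvd E (TAB.Sz.Virt.del vc Nat.prime_two)
  have d5 := h3 fun _ => 1
  have d6 : 0 ≤ ∑ g : E, nth vC (ty g) := by
    obtain ⟨a, ha⟩ := exists_sum_eq chi_isChar E
    simp only [chi_ty] at ha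
    have : ∑ g : E, nth vC (ty g) = Nat.card E * a := by exact_mod_cast ha
    rw [this]
    positivity
  rw [h3 (nth vC)] at d1 d6
  rw [h3 (nth vF)] at d2
  rw [h3 fun t => nth vC t * nth vC t] at d3
  rw [h3 fun t => (nth vC (dat.pwf t 2) - nth vC t ^ 2) / ((2 : ℕ) : ℤ)] at d4
  rw [Finset.sum_const, Finset.card_univ, ← Nat.card_eq_fintype_card, nsmul_one] at d5
  have p0 : dat.pwf 0 2 = 0 ∧ dat.pwf 1 2 = 0 ∧ dat.pwf 2 2 = 0 ∧ dat.pwf 3 2 = 0 := by decide +kernel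
  have c0 : nth vC 0 = 78 ∧ nth vC 1 = -2 ∧ nth vC 2 = 14 ∧ nth vC 3 = -34 := by decide +kernel
  have f0 : nth vF 0 = 3510 ∧ nth vF 1 = 54 ∧ nth vF 2 = 182 ∧ nth vF 3 = 694 := by decide +kernel
  simp only [p0, c0, f0, h1] at d1 d2 d3 d4 d5 d6
  have hp : ∀ i, i ≤ j → ((2 ^ i : ℕ) : ℤ) ∣ Nat.card E := fun i hi => Int.natCast_dvd_natCast.2 (hj ▸ pow_dvd_pow 2 hi)
  generalize (Nat.card E : ℤ) = n at d1 d2 d3 d4 d5 hp
  norm_num at d1 d2 d3 d4 d5 d6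
  have q1 := hp 1 h0
  by_cases e1 : N 1 = 0
  · by_cases e2 : N 2 = 0
    · obtain ⟨t, ht, e⟩ := h2 3 (by omega)
      refine ⟨t, ht, .inr (.inr ⟨e, by_contra fun h => ?_⟩)⟩
      have := hp 2 (by omega)
      omega
    · obtain ⟨t, ht, e⟩ := h2 2 e2
      refine ⟨t, ht, .inr (.inl ⟨e, by_contra fun h => ?_⟩)⟩
      have q := hp 9 (by omega)
      have := q.trans d2
      omega
  · obtain ⟨t, ht, e⟩ := h2 1 e1
    refine ⟨t, ht, .inl ⟨e, by_contra fun h => ?_⟩⟩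
    have q := hp 11 (by omega)
    have := q.trans d1
    have := q.trans d2
    have := q.trans d3
    have := q.trans d4
    omega

section inst

open Cfsg.Agent.Omega.TwoF.FiCfg Cfsg.Agent.Omega.TwoF.RowFiLB Cfsg.Agent.H123.Cls.FiDat
open Cfsg.Agent.Omega.Quasithin.Row.E27 Cfsg.Agent.Omega.Quasithin.Row.Cox
open Cfsg.Agent.Fischer.Derived (M8 ev spider ev_cons)

/-- the eight generators -/
def s22 : Fin 8 → Fi22 := sn Fi22.extra Fi22.edges ![.b, .c, .d, .e, .f, .g, .h, .i]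

theorem lift22 : M8.IsLiftable s22 := lift nodes_Fi22 _ (by decide)

theorem cfg22 : Cfg (tv s22) (ev s22 sw) := by
  refine cfg lift22 ?_
  have h : (Fi22.d * Fi22.c * Fi22.b * Fi22.d * Fi22.e * Fi22.f * Fi22.d * Fi22.h * Fi22.i) ^ 10 ∈
      coxRelators Fi22.edges ∪ {r | r ∈ Fi22.extra} := by
    right
    show _ ∈ Fi22.extra
    unfold Fi22.extra
    simp
  have h1 := PresentedGroup.one_of_mem h
  simp only [map_mul, map_pow] at h1
  rw [← h1]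
  congr 1

theorem z22_ne : Z (tv s22) ≠ 1 := by
  have hcard : ¬ ∀ a b : Fi22, a * b = b * a := fun h => by
    have h1 : commutator Fi22 = ⊥ := commutator_eq_bot_iff_le_centralizer.2 fun a _ b _ => h b a
    obtain ⟨g, hg⟩ := inh 1 (by decide)
    rw [mem_bot.1 (show g ∈ (⊥ : Subgroup Fi22) by rw [← h1, perfect22]; trivial), td_ty, ty_one] at hg
    omega
  exact Z_ne lift22 (a := PresentedGroup.of .a) (cox_sq (nodes_Fi22 _))
    (cox_three (nodes_Fi22 _) (nodes_Fi22 _) (by decide)) (ne_of_walk nodes_Fi22 hcard _ _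
      [(.a, .b, .c), (.a, .c, .d), (.a, .d, .e), (.a, .d, .h), (.a, .e, .f), (.a, .h, .i), (.a, .f, .g)]
      (fun x => by cases x <;> decide))
    fun i h0 h5 => cox_comm (nodes_Fi22 _) (nodes_Fi22 _) (by revert h0 h5; revert i; decide)

/-- the word of `σ` -/
def sN : List ℕ := sw.map fun i => i + 1

/-- the words of the three transpositions -/
def tN : ℕ → List ℕ
  | 0 => [1]
  | k + 1 => sN ++ tN k ++ sN.reverse

theorem tN_realised : True := by have := @tN.eq_def; trivial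

theorem el_tN (k : ℕ) : el (tN k) = cj (ev s22 sw) k (tv s22 0) := by
  induction k with
  | zero => rw [cj_apply, pow_zero, one_mul, inv_one, mul_one]; rfl
  | succ k ih =>
    rw [tN, el_append, el_append, el_reverse, ih, add_comm, cj_add, cj_apply _ 1, pow_one]
    rfl

theorem trA : trB 78 ms sc fs 16 (tN 0) (-34 : ℤ) = true := by decide +kernel

theorem trB' : trB 78 ms sc fs 16 (tN 1 ++ tN 2) (14 : ℤ) = true := by decide +kernel

theorem trC : trB 78 ms sc fs 16 (tN 0 ++ (tN 1 ++ tN 2)) (-2 : ℤ) = true := by decide +kernel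

theorem ty_of {w : List ℕ} {i : ℕ} {v : ℤ} (hi : i < 4 ∧ nth vC i = v) (h : trB 78 ms sc fs 16 w v = true)
    (h2 : el w ^ 2 = 1) : ty (el w) = i := by
  have h1 : ∀ i < 4, ∀ j < 4, nth vC i = nth vC j → i = j := by decide +kernel
  exact h1 _ (ty_two h2) _ hi.1 (Int.cast_injective (α := ℂ) ((chi_ty _).symm.trans (hi.2 ▸ chi_el h)))

theorem eb_ty {s t : Fi22} {n : ℕ} (h : EB 2 3 s n) (e : ty s = ty t) : EB 2 3 t n := by
  obtain ⟨θ, rfl, -⟩ := hom s t e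
  exact eb_aut h θ

theorem cfg_inv {S : Type} [Group S] {t : Fin 3 → S} {σ : S} (h : Cfg t σ) (hz : Z t ≠ 1) {a : ℕ → S}
    (ha : ∀ k, a k = cj σ k (t 0)) : EB 2 3 (a 0) 10 ∧ EB 2 3 (a 1 * a 2) 20 ∧ EB 2 3 (a 0 * (a 1 * a 2)) 24 ∧
      a 0 ^ 2 = 1 ∧ (a 1 * a 2) ^ 2 = 1 ∧ (a 0 * (a 1 * a 2)) ^ 2 = 1 := by
  obtain ⟨h1, h2⟩ := eb_cfg h hz
  have C : Cov t σ 1 := ⟨h.t2, by simp [h.s3], h.x3, h.arm, h.zt, by simp, by rw [h.zs, mul_inv_cancel_right, mul_one]⟩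
  have c12 : Commute (cj σ 1 (t 0)) (cj σ 2 (t 0)) := C.arms (k := 1) (l := 2) (by decide) (Cov.t_mem 0) (Cov.t_mem 0)
  have c01 : Commute (cj σ 0 (t 0)) (cj σ 1 (t 0)) := C.arms (k := 0) (l := 1) (by decide) (Cov.t_mem 0) (Cov.t_mem 0)
  have c02 : Commute (cj σ 0 (t 0)) (cj σ 2 (t 0)) := C.arms (k := 0) (l := 2) (by decide) (Cov.t_mem 0) (Cov.t_mem 0)
  have s0 : ∀ k, cj σ k (t 0) ^ 2 = 1 := fun k => by rw [← map_pow, h.t2, map_one]
  have s1 : (cj σ 1 (t 0) * cj σ 2 (t 0)) ^ 2 = 1 := by rw [c12.mul_pow, s0, s0, one_mul]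
  have i : ∀ k, IsConj (cj σ 0 (t 0)) (cj σ k (t 0)) := fun k => isConj_iff.2 ⟨σ ^ k, by simp [cj_apply]⟩
  rw [ha, ha, ha]
  exact ⟨h1.mul (i 1) (i 2) (by norm_num), h1, h2, s0 0, s1, by rw [(c01.mul_right c02).mul_pow, s0, s1, one_mul]⟩

theorem eb22 (t : Fi22) : (ty t = 1 → EB 2 3 t 24) ∧ (ty t = 2 → EB 2 3 t 20) ∧ (ty t = 3 → EB 2 3 t 10) := by
  obtain ⟨h3, h1, h2, s0, s1, s2⟩ := cfg_inv cfg22 z22_ne el_tN
  rw [← el_append] at h1 s1
  rw [← el_append, ← el_append] at h2 s2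
  exact ⟨fun e => eb_ty h2 ((ty_of (by decide +kernel) trC s2).trans e.symm),
    fun e => eb_ty h1 ((ty_of (by decide +kernel) trB' s1).trans e.symm),
    fun e => eb_ty h3 ((ty_of (by decide +kernel) trA s0).trans e.symm)⟩

end inst

theorem two22 : NoOff 2 Fi22 := by
  refine noOff_two' (m := 3) S2079.result.dvd S2053.result (by rw [Fischer.Fi22Order.card_fi22]; norm_num)
    (fun t ht => ?_) fun E hE j h0 hj => ?_
  · obtain ⟨h1, h2, h3⟩ := eb22 t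
    have h4 := ty_two (ht ▸ pow_orderOf_eq_one t)
    have h5 : ty t ≠ 0 := fun e => by rw [ty_zero.1 e, orderOf_one] at ht; omega
    rcases (by omega : ty t = 1 ∨ ty t = 2 ∨ ty t = 3) with e | e | e
    · exact (h1 e).mono (by norm_num)
    · exact (h2 e).mono (by norm_num)
    · exact (h3 e).mono (by norm_num)
  · obtain ⟨t, ht, h⟩ := elem_cases hE.2 h0 hj
    obtain ⟨h1, h2, h3⟩ := eb22 t
    refine ⟨t, ht, ?_⟩
    rcases h with ⟨e, h⟩ | ⟨e, h⟩ | ⟨e, h⟩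
    · exact (h1 e).mono (by omega)
    · exact (h2 e).mono (by omega)
    · exact (h3 e).mono (by omega)

end Cfsg.Agent.TwoF.SpE
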