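import Cfsg.Agent.TwoF.SpE.Odd
import Cfsg.Agent.H621.FI.LB

/-!
# TwoF / SP-E: modules of `Fi23` in characteristic two have dimension at least 234 (helper95)
-/

set_option autoImplicit false
set_option exponentiation.threshold 5000
set_option maxRecDepth 100000

namespace Cfsg.Agent.TwoF.SpE

open Module Subgroup Cfsg Cfsg.Spor Cfsg.Agent.TwoF.XE Cfsg.Agent.KFacts.FiTTh
open Cfsg.Agent.Omega.Lie.Heis (Heis)

section abstract

variable {Y : Type*} [Group Y]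

/-- the elements of the group generated by four commuting elements -/
def w4 (x : Fin 4 → Y) (a b c d : ℤ) : Y := x 0 ^ a * x 1 ^ b * x 2 ^ c * x 3 ^ d

variable {x y : Fin 4 → Y} {z : Y}

theorem w4_conj (q : Y) (a b c d : ℤ) : q * w4 x a b c d * q⁻¹ =
    (q * x 0 * q⁻¹) ^ a * (q * x 1 * q⁻¹) ^ b * (q * x 2 * q⁻¹) ^ c * (q * x 3 * q⁻¹) ^ d := by
  simp only [w4, conj_zpow]; group

theorem zl (h : ∀ i j, x i * x j = x j * x i) (i j : Fin 4) (a b : ℤ) (t : Y) :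
    x i ^ a * (x j ^ b * t) = x j ^ b * (x i ^ a * t) := (Commute.zpow_zpow (h i j) a b).left_comm t

theorem zr (h : ∀ i j, x i * x j = x j * x i) (i j : Fin 4) (a b : ℤ) :
    x i ^ a * x j ^ b = x j ^ b * x i ^ a := (Commute.zpow_zpow (h i j) a b).eq

theorem w4_mul (h : ∀ i j, x i * x j = x j * x i) (a b c d a' b' c' d' : ℤ) :
    w4 x a b c d * w4 x a' b' c' d' = w4 x (a + a') (b + b') (c + c') (d + d') := by
  simp only [w4, zpow_add, mul_assoc, zl h 1 0, zl h 2 0, zl h 3 0, zl h 2 1, zl h 3 1, zl h 3 2]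

theorem w4_mod (h : ∀ i, x i ^ 3 = 1) {a b c d a' b' c' d' : ℤ} (ha : a % 3 = a' % 3) (hb : b % 3 = b' % 3)
    (hc : c % 3 = c' % 3) (hd : d % 3 = d' % 3) : w4 x a b c d = w4 x a' b' c' d' := by
  have h1 : ∀ i (a a' : ℤ), a % 3 = a' % 3 → x i ^ a = x i ^ a' := fun i a a' e => by
    rw [zpow_eq_zpow_emod' a (h i), zpow_eq_zpow_emod' a' (h i)]
    exact congrArg _ e
  rw [w4, w4, h1 0 a a' ha, h1 1 b b' hb, h1 2 c c' hc, h1 3 d d' hd]

theorem w4_comm {g : Y} (h : ∀ i, g * x i = x i * g) (a b c d : ℤ) : g * w4 x a b c d = w4 x a b c d * g :=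
  ((((Commute.zpow_right (h 0) a).mul_right (Commute.zpow_right (h 1) b)).mul_right
    (Commute.zpow_right (h 2) c)).mul_right (Commute.zpow_right (h 3) d)).eq

variable [Finite Y] {V : Type*} [AddCommGroup V] [Module (ZMod 2) V] [Finite V] {ρ : Representation (ZMod 2) Y V}

theorem bound4 (h : Heis 3 4 z x y) (hz : ρ z ≠ 1) {u : Fin 4 → Y} (u1 : ∀ i, u i * x i * (u i)⁻¹ = (x i)⁻¹)
    (u2 : ∀ i j, i ≠ j → u i * x j = x j * u i) (u3 : ∀ i, z * u i = u i * z) {s r g : Y} (sz : z * s = s * z)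
    (s0 : s * x 0 * s⁻¹ = x 1) (s1 : s * x 1 * s⁻¹ = x 2) (s2 : s * x 2 * s⁻¹ = x 0) (s3 : s * x 3 * s⁻¹ = x 3)
    (rz : z * r = r * z) (r0 : r * x 0 * r⁻¹ = x 2) (r1 : r * x 1 * r⁻¹ = x 1) (r2 : r * x 2 * r⁻¹ = x 3)
    (hg : g * z * g⁻¹ = x 0 * x 1 * x 2) : 234 ≤ finrank (ZMod 2) V := by
  have cj : ∀ {q a : Y}, q * a = a * q → q * a * q⁻¹ = a := fun e => by rw [e, mul_inv_cancel_right]
  have one : ∀ {q : Y}, z * q = q * z → ∀ g ∈ [z], g * q = q * g := fun e g hg => by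
    rw [List.mem_singleton.1 hg]; exact e
  have m3 : ∀ a b c d, w4 x a b c d ^ 3 = 1 := fun a b c d => by
    rw [pow_succ, pow_two, w4_mul h.xx, w4_mul h.xx, w4_mod h.xr (a' := 0) (b' := 0) (c' := 0) (d' := 0) (by omega)
      (by omega) (by omega) (by omega)]
    simp [w4]
  have mz := fun a b c d => w4_comm h.zx a b c d
  have U0 : ∀ a b c d, dl ρ [w4 x (-a) b c d, z] = dl ρ [w4 x a b c d, z] := fun a b c d =>
    dl_conj' (q := u 0) (by
      rw [w4_conj, u1, cj (u2 0 1 (by decide)), cj (u2 0 2 (by decide)), cj (u2 0 3 (by decide)), inv_zpow']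
      rfl) (one (u3 0))
  have U3 : ∀ a b c d, dl ρ [w4 x a b c (-d), z] = dl ρ [w4 x a b c d, z] := fun a b c d =>
    dl_conj' (q := u 3) (by
      rw [w4_conj, u1, cj (u2 3 0 (by decide)), cj (u2 3 1 (by decide)), cj (u2 3 2 (by decide)), inv_zpow']
      rfl) (one (u3 3))
  have S : ∀ a b c d, dl ρ [w4 x c a b d, z] = dl ρ [w4 x a b c d, z] := fun a b c d =>
    dl_conj' (q := s) (by
      rw [w4_conj, s0, s1, s2, s3]
      simp only [w4, mul_assoc, zl h.xx 1 0, zl h.xx 2 0]) (one sz)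
  have R : ∀ a b c, dl ρ [w4 x 0 b a c, z] = dl ρ [w4 x a b c 0, z] := fun a b c =>
    dl_conj' (q := r) (by
      rw [w4_conj, r0, r1, r2]
      simp only [w4, mul_assoc, zl h.xx 2 1, zpow_zero, mul_one, one_mul]) (one rz)
  have e0 : x 0 * x 1 * x 2 = w4 x 1 1 1 0 := by simp [w4]
  have q1 : y 0 * w4 x 1 1 1 0 * (y 0)⁻¹ = w4 x 1 1 1 0 * z := by
    rw [w4_conj, h.conj, cj (h.yx 0 1 (by decide)), cj (h.yx 0 2 (by decide)), ← mz]
    simp only [w4, zpow_one, zpow_zero, mul_one, ← h.zx 0, mul_assoc]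
  have q2 : y 0 * (w4 x 1 1 1 0 * z) * (y 0)⁻¹ = w4 x 1 1 1 0 * z ^ 2 := by
    rw [← conj_mul, q1, cj (h.zy 0).symm, pow_two, mul_assoc]
  have d0 : dl ρ [w4 x 1 1 1 0] = dl ρ [z] := dl_conj' (hg.trans e0) (by simp)
  have d1 : dl ρ [w4 x 1 1 1 0 * z] = dl ρ [w4 x 1 1 1 0] := dl_conj' q1 (by simp)
  have d2 : dl ρ [w4 x 1 1 1 0 * z ^ 2] = dl ρ [w4 x 1 1 1 0 * z] := dl_conj' q2 (by simp)
  have k1 := rank2 (ρ := ρ) three_ne (l := []) (mz 1 1 1 0).symm (m3 1 1 1 0) h.zr (by simp) (by simp)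
  have k2 := rank2 (ρ := ρ) three_ne (l := [z]) (y := w4 x 1 1 1 0) (z := w4 x 0 1 (-1) 1)
    (by rw [w4_mul h.xx, w4_mul h.xx]; rfl) (m3 _ _ _ _) (m3 _ _ _ _) (one (mz _ _ _ _)) (one (mz _ _ _ _))
  rw [pow_two, w4_mul h.xx, w4_mul h.xx, w4_mul h.xx, w4_mod h.xr (a := 1 + 0) (a' := 1) (b' := -1) (c' := 0) (d' := 1)
    (by decide) (by decide) (by decide) (by decide), w4_mod h.xr (a := 1 + (0 + 0)) (a' := 1) (b' := 0) (c' := -1)
    (d' := -1) (by decide) (by decide) (by decide) (by decide)] at k2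
  have a1 := R (-1) 1 1
  have a2 := U0 1 1 1 0
  have a3 := S 1 (-1) 0 1
  have a4 := S 1 0 (-1) (-1)
  have a5 := S (-1) 1 0 (-1)
  have a6 := U3 0 (-1) 1 1
  have a7 := R 1 (-1) 1
  have a8 := S (-1) 1 1 0
  have a9 := S 1 1 1 0
  have k3 := heis_cod h hz
  have k4 := cod_add_dl (ρ := ρ) z
  rw [dl_nil] at k1
  omega

end abstract

section inst

open Cfsg.Agent.H621.FI Cfsg.Agent.H621.FI.M9 Cfsg.Agent.H621.FI.Four Cfsg.Agent.H621.FI.Words
open Cfsg.Agent.Omega.TwoF.FiCfg (cj cj_apply cj_add X Y Z Cfg Cov)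
open Cfsg.Agent.Omega.Quasithin.Row.E27 Cfsg.Agent.Omega.Quasithin.Row.Cox

theorem bound_cov {L : Type*} [Group L] [Finite L] {V : Type*} [AddCommGroup V] [Module (ZMod 2) V] [Finite V]
    {ρ : Representation (ZMod 2) L V} {t : Fin 3 → L} {σ r c g : L} (h : Cov4 t σ r c) (hz : ρ (Z t) ≠ 1)
    (h3 : σ * cj r 1 (cj σ 2 (X t)) * σ⁻¹ = cj r 1 (cj σ 2 (X t)))
    (hg : g * Z t * g⁻¹ = X t * cj σ 1 (X t) * cj σ 2 (X t)) : 234 ≤ finrank (ZMod 2) V := by
  have i0 : (t 0)⁻¹ = t 0 := inv_eq_of_mul_eq_one_left (h.tt 0)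
  have i1 : (t 1)⁻¹ = t 1 := inv_eq_of_mul_eq_one_left (h.tt 1)
  have e1 : t 0 * X t * (t 0)⁻¹ = (X t)⁻¹ := by rw [X, mul_inv_rev, i0, i1, ← mul_assoc, h.tt, one_mul]
  have e2 : ∀ {q : L}, cj q 1 (Z t) = Z t → Z t * q = q * Z t := fun e => by
    rw [Cov4.cj_one, mul_inv_eq_iff_eq_mul] at e; exact e.symm
  have e3 : Cov4.arm σ r 0 (X t) = X t := Cov4.cj_zero σ _
  refine bound4 h.heis hz (u := fun k => Cov4.arm σ r k (t 0)) (fun i => ?_)
    (fun i j hij => h.arms hij (Cov.t_mem 0) Cov.X_mem) (fun i => h.zk i (Cov.t_mem 0)) (s := σ) (r := r) (g := g)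
    (e2 (h.sZ 1)) ?_ ?_ ?_ h3 (e2 h.rZ') ?_ ?_ (Cov4.cj_one r _).symm ?_
  · rw [← map_inv, ← map_mul, ← map_mul, e1, map_inv]
  · rw [e3, ← Cov4.cj_one]; rfl
  · exact (Cov4.cj_one σ _).symm.trans (cj_add σ 1 1 _).symm
  · rw [e3]
    exact (Cov4.cj_one σ _).symm.trans ((cj_add σ 1 2 _).symm.trans (h.cov.cj_three _))
  · rw [e3, ← Cov4.cj_one, X, map_mul, Cov4.cj_one, Cov4.cj_one, h.r0, h.r1, ← map_mul, ← mul_assoc, ← mul_assoc, h.tt,
      one_mul]
    rfl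
  · exact (Cov4.cj_one r _).symm.trans (h.rf' Cov.X_mem)
  · rw [e3]; exact hg

/-- the nine nodes -/
def nd23 : Fin 9 → Fi23.Gen := ![.b, .c, .d, .e, .f, .g, .h, .i, .j]

/-- the nine generators -/
def s23 : Fin 9 → Fi23 := LB.sn Fi23.extra Fi23.edges nd23

theorem lift23 : M9.IsLiftable s23 := LB.lift nodes_Fi23 nd23 (by decide)

theorem spider23 : ev s23 spider ^ 10 = 1 := by
  have h : (Fi23.d * Fi23.c * Fi23.b * Fi23.d * Fi23.e * Fi23.f * Fi23.d * Fi23.h * Fi23.i) ^ 10 ∈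
      coxRelators Fi23.edges ∪ {r | r ∈ Fi23.extra} := by
    right
    show _ ∈ Fi23.extra
    unfold Fi23.extra
    simp
  have h1 := PresentedGroup.one_of_mem h
  simp only [map_mul, map_pow] at h1
  rw [← h1]
  congr 1

theorem z23_ne : Z (tv s23) ≠ 1 := by
  have hcard : ¬ ∀ a b : Fi23, a * b = b * a := fun h => by
    have h1 := Omega.TwoF.RowFi.center_fi23
    rw [(eq_top_iff' _).2 fun x => mem_center_iff.2 fun g => h g x] at h1
    exact BasFi.e_ne_one 0 (mem_bot.1 (h1 ▸ mem_top _))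
  exact Z_ne lift23 (a := PresentedGroup.of .a) (cox_sq (nodes_Fi23 _))
    (cox_three (nodes_Fi23 _) (nodes_Fi23 _) (by decide)) (ne_of_walk nodes_Fi23 hcard _ _
      [(.a, .b, .c), (.a, .c, .d), (.a, .d, .e), (.a, .d, .h), (.a, .e, .f), (.a, .h, .i), (.a, .f, .g), (.a, .g, .j)]
      (fun x => by cases x <;> decide))
    fun i h0 h5 => cox_comm (nodes_Fi23 _) (nodes_Fi23 _) (by revert h0 h5; revert i; decide)

theorem ev23 (w : List (Fin 9)) : ev s23 w = Fischer.Fi23Orb.word (w.map nd23) := by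
  induction w with
  | nil => rfl
  | cons i w ih => rw [ev_cons, ih]; rfl

/-- the word of `ρ σ²` -/
def ww : List (Fin 9) := rw' ++ sw ++ sw

theorem chk_b : Lib.PermNetPt.chkPt (((ww.reverse ++ sw ++ ww).map nd23).map Fischer.Fi23Rel.net) (BasChk.pn .b)
    (BasChk.pn .b) = true := by decide +kernel

theorem chk_1 : chk (c1 (cr (c1 (c1 (tw 1))))) (cr (c1 (c1 (tw 1)))) = true := by decide +kernel

theorem comm23 : ev s23 sw * cj (ev s23 rw') 1 (cj (ev s23 sw) 2 (X (tv s23))) * (ev s23 sw)⁻¹ =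
    cj (ev s23 rw') 1 (cj (ev s23 sw) 2 (X (tv s23))) := by
  obtain ⟨h, h1, h2⟩ := BasFi.ptgen .b
  have h3 := BasChk.rho_of_chkPt chk_b
  rw [← h2, Cent.fixes_iff, h1, ← ev23, ev_append, ev_append, ev_reverse lift23, ww, ev_append, ev_append] at h3
  have h4 := ev_eq_ev lift23 chk_1
  rw [ev_c1 lift23, ev_cr lift23, ev_c2 lift23, ← Cov4.cj_one] at h4
  have h5 : cj (ev s23 sw) 1 (cj (ev s23 rw') 1 (cj (ev s23 sw) 2 (tv s23 0))) =
      cj (ev s23 rw') 1 (cj (ev s23 sw) 2 (tv s23 0)) := by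
    rw [show tv s23 0 = Fischer.Fi23Hom.gen .b from mul_one _]
    simp only [cj_apply, pow_one, pow_two]
    generalize ev s23 sw = a at h3 ⊢
    generalize ev s23 rw' = r at h3 ⊢
    generalize Fischer.Fi23Hom.gen .b = b at h3 ⊢
    calc _ = r * a * a * ((r * a * a)⁻¹ * a * (r * a * a) * b) * (r * a * a)⁻¹ * a⁻¹ := by group
      _ = _ := by rw [h3]; group
  rw [← Cov4.cj_one, X, map_mul, map_mul, map_mul, h5]
  exact congrArg _ h4

theorem lb23 : LB 2 Fi23 234 :=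
  haveI := Omega.TwoF.RowFi.finite_fi23
  lb_of_faithful S2054.result (fun _ hm _ => Nat.dvd_one.1 hm) fun _ _ _ _ σ hσ =>
    bound_cov ((cfg lift23 spider23).cov _) (fun h => z23_ne (hσ (h.trans (map_one σ).symm))) comm23 (conj_Z lift23)

end inst

open Cfsg.Agent.Omega.TwoF.RowFi (card_fi23 card_fi24 finite_fi23 finite_fi24)

theorem two23 : NoOff 2 Fi23 :=
  haveI := finite_fi23
  noOff_of_lb' lb23 S2054.result (by norm_num) card_fi23.le S2080.result.le (by norm_num)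

theorem two24 : NoOff 2 Fi24' :=
  haveI := finite_fi24
  noOff_of_lb' (LB.fi24 lb23) S2055.result (by norm_num) card_fi24.le S2081.result.le (by norm_num)

theorem twoB : NoOff 2 BabyMonster :=
  haveI := finite_b
  noOff_of_lb' (LB.baby lb23) S2058.result (by norm_num) BM.KHAll.card_B.le S2084.result.le (by norm_num)

end Cfsg.Agent.TwoF.SpE
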