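import Cfsg.Agent.TwoF.SpE.Odd
import Cfsg.Agent.TAB.C3B.Ident
import Cfsg.Agent.TAB.C3B.Basic
import Cfsg.Agent.MonsterP.Equiv

/-!
# TwoF / SP-E: the Monster in characteristic two (helper95)
-/

set_option autoImplicit false
set_option exponentiation.threshold 5000

namespace Cfsg.Agent.TwoF.SpE

open Module Subgroup Cfsg Cfsg.Spor Cfsg.Agent.TwoF.XE Cfsg.Agent.TAB.C3B
open Cfsg.Agent.Omega.Lie.Heis (Heis)

theorem mod_swap {D : Type*} [Group D] (m : TAB.C3B.Mod D) (u v : V12) :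
    m.β u * m.β v = m.β v * m.β u * m.X (fm u v + fm u v) := by
  rw [m.β_mul, m.β_mul, add_comm v, mul_assoc, ← m.X_add, fm_swap u v, neg_add_cancel_left]

theorem mod_heis {D : Type*} [Group D] (m : TAB.C3B.Mod D) : ∃ c, c ≠ 0 ∧
    Heis 3 6 (m.X c) (fun i => m.β (Pi.single (.inl i) 1)) fun i => m.β (Pi.single (.inr i) 1) := by
  have h1 : ∀ i j : Fin 6, fm (Pi.single (.inl i) 1) (Pi.single (.inl j) 1) = 0 := by decide +kernel
  have h2 : ∀ i j : Fin 6, i ≠ j → fm (Pi.single (.inr i) 1) (Pi.single (.inl j) 1) = 0 := by decide +kernel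
  have h3 : ∀ i : Fin 6, fm (Pi.single (.inr i) 1) (Pi.single (.inl i) 1) = 1 := by decide +kernel
  refine ⟨1 + 1, by decide, Nat.prime_three, ?_, fun i => ?_, fun i => (m.X_cen _ _).symm, fun i => (m.X_cen _ _).symm,
    fun i j => ?_, fun i j h => ?_, fun i => ?_⟩
  · rw [m.X_pow, show ((3 : ℕ) : ZMod 3) * (1 + 1) = 0 from rfl, m.X_zero]
  · rw [pow_succ, pow_two, m.β_mul, h1, m.X_zero, mul_one, m.β_mul, fm_swap, fm_add_right, h1, add_zero, neg_zero,
      m.X_zero, mul_one, ← m.β_zero]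
    exact congrArg _ (funext fun j => z3_three _)
  · rw [mod_swap, h1, add_zero, m.X_zero, mul_one]
  · rw [mod_swap, h2 i j h, add_zero, m.X_zero, mul_one]
  · rw [mod_swap, h3, mul_assoc, ← m.X_cen, mul_assoc, mul_inv_cancel_left]

theorem lbM : LB 2 Monster 1458 := by
  have := finite_m
  refine lb_of_faithful S2059.result (fun _ hm _ => Nat.dvd_one.1 hm) fun U _ _ _ σ hσ => ?_
  obtain ⟨e⟩ := MonsterP.Equiv.equiv
  obtain ⟨x, m, -⟩ := exists_mod'
  obtain ⟨c, h1, h2⟩ := mod_heis m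
  have := Finite.of_equiv _ e.toEquiv
  have h3 := heis_cod (ρ := (σ.comp e.symm.toMonoidHom).comp (Subgroup.subtype _)) h2 fun h =>
    h1 (m.X_inj c (Subtype.ext (e.symm.injective (hσ (h.trans (by rw [OneMemClass.coe_one, map_one, map_one]))))))
  exact h3.trans (Nat.sub_le _ _)

theorem twoM : NoOff 2 Monster :=
  haveI := finite_m
  noOff_of_lb' lbM S2059.result (by norm_num) H444.EP.Mon.card_M.le S2085.result.le (by norm_num)

end Cfsg.Agent.TwoF.SpE
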