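import Cfsg.Agent.TwoF.SpE.F22B
import Cfsg.Agent.TwoF.SpE.F23
import Cfsg.Agent.TwoF.SpE.Mon

/-!
# TwoF / SP-E: the rows of `Fi22, Fi23, Fi24', B, M` and the box of the sporadic groups (helper95)
-/

set_option autoImplicit false

namespace Cfsg.Agent.TwoF.SpE

open Cfsg Cfsg.Spor

theorem noOff_of {S : Type} [Group S] (h2 : NoOff 2 S) (h : ∀ (p : ℕ) [Fact p.Prime], p ≠ 2 → NoOff p S) (p : ℕ)
    [Fact p.Prime] : NoOff p S := by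
  by_cases e : p = 2
  · subst e
    exact h2
  · exact h p e

theorem row_fi22 (p : ℕ) [Fact p.Prime] : Row p Fi22 := (noOff_of two22 (fun _ _ => odd22) p).row

theorem row_fi23 (p : ℕ) [Fact p.Prime] : Row p Fi23 := (noOff_of two23 (fun _ _ => odd23) p).row

theorem row_fi24 (p : ℕ) [Fact p.Prime] : Row p Fi24' := (noOff_of two24 (fun _ _ => odd24) p).row

theorem row_b (p : ℕ) [Fact p.Prime] : Row p BabyMonster := (noOff_of twoB (fun _ _ => oddB) p).row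

theorem row_m (p : ℕ) [Fact p.Prime] : Row p Monster := (noOff_of twoM (fun _ _ => oddM) p).row

/-- the rows of a group for all primes -/
def Rows (S : Type) [Group S] : Prop := ∀ (p : ℕ) [Fact p.Prime], Row p S

/-- **the box of the sporadic groups** from the other 21 rows -/
theorem boxSpor (m11 : Rows M11) (m12 : Rows M12) (m22 : Rows M22) (m23 : Rows M23) (m24 : Rows M24) (j1 : Rows J1)
    (j2 : Rows J2) (j3 : ∀ (S : Type) [Group S], IsoJ3 S → Rows S) (j4 : Rows J4) (co1 : Rows Co1) (co2 : Rows Co2)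
    (co3 : Rows Co3) (mcl : Rows McL) (hs : Rows HS) (suz : Rows Suz) (he : Rows He) (ru : Rows Ru) (on : Rows ON)
    (ly : Rows Ly) (hn : Rows HN) (th : Rows Th) : Box fun K _ => IsSporadicGroup K := by
  intro p _ S _ _ _ h _ _
  rcases h with ⟨⟨e⟩⟩ | ⟨⟨e⟩⟩ | ⟨⟨e⟩⟩ | ⟨⟨e⟩⟩ | ⟨⟨e⟩⟩ | ⟨⟨e⟩⟩ | ⟨⟨e⟩⟩ | h | ⟨⟨e⟩⟩ | ⟨⟨e⟩⟩ | ⟨⟨e⟩⟩ | ⟨⟨e⟩⟩ | ⟨⟨e⟩⟩ |
    ⟨⟨e⟩⟩ | ⟨⟨e⟩⟩ | ⟨⟨e⟩⟩ | ⟨⟨e⟩⟩ | ⟨⟨e⟩⟩ | ⟨⟨e⟩⟩ | ⟨⟨e⟩⟩ | ⟨⟨e⟩⟩ | ⟨⟨e⟩⟩ | ⟨⟨e⟩⟩ | ⟨⟨e⟩⟩ | ⟨⟨e⟩⟩ | ⟨⟨e⟩⟩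
  exacts [(m11 p).of_equiv e, (m12 p).of_equiv e, (m22 p).of_equiv e, (m23 p).of_equiv e, (m24 p).of_equiv e,
    (j1 p).of_equiv e, (j2 p).of_equiv e, j3 S h p, (j4 p).of_equiv e, (co1 p).of_equiv e,
    (co2 p).of_equiv e, (co3 p).of_equiv e, (mcl p).of_equiv e, (hs p).of_equiv e, (suz p).of_equiv e,
    (he p).of_equiv e, (ru p).of_equiv e, (on p).of_equiv e, (ly p).of_equiv e, (row_fi22 p).of_equiv e,
    (row_fi23 p).of_equiv e, (row_fi24 p).of_equiv e, (hn p).of_equiv e, (th p).of_equiv e, (row_b p).of_equiv e,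
    (row_m p).of_equiv e]

end Cfsg.Agent.TwoF.SpE
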