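import Cfsg.Agent.TwoF.SpE.T2
import Cfsg.Agent.TwoF.SpA.Gen
import Cfsg.Agent.TAB.McL.Main
import Cfsg.Agent.TypeM.FactsAut
import Cfsg.Agent.TypeM.OuterInst
import Cfsg.Agent.H212.TI.McLSeven
import Cfsg.Agent.H55.OutGen
import Cfsg.Agent.S2047
import Cfsg.Agent.S2073

/-!
# TwoF / SP: the row of the McLaughlin group (helper95)
-/

set_option autoImplicit false
set_option maxHeartbeats 400000
set_option maxRecDepth 100000

namespace Cfsg.Agent.TwoF.SpE.McL

open Cfsg Subgroup Cfsg.Agent.TwoF.Gen Cfsg.Agent.TwoF.SpD Cfsg.Agent.TwoF.XE Cfsg.Agent.TwoF.SpO Cfsg.Agent.H859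
open Cfsg.Agent.TAB.Eng Cfsg.Agent.TAB.McL Cfsg.Agent.H359.CT.McL Cfsg.Agent.McLType.Gens
open Cfsg.Agent.H41.McLTwo.Ords (os order_xs)

/-- involutions -/
def c2 : List (ℕ × List ℤ) := [(1, [-2017669500, 292572000, 4900500, 24019875, 1069200, -510300, 113400, -537075,
    1732500, -1688500, -2274750, 74844])]

/-- order three -/
def c3 : List (ℕ × List ℤ) := [(2, [-24948000, 6804000, 1404000, -1287000, 0, -14175, 14175, -16632, 42000, 44000,
    -18000, -12960]), (3, [17962560, -816480, 155520, 0, 0, -5103, 5103, 0, 0, 3520, -3240, 0])]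

/-- order five -/
def c5 : List (ℕ × List ℤ) := [(5, [209563200, 4082400, -129600, -594000, 0, -59535, 59535, 0, 63000, 70400, -10800,
    -31104]), (6, [28066500, 0, -121500, 111375, 0, 0, 0, 6237, 0, 5500, 0, -2916])]

theorem ok2 : okOrdP D (irows RR) (fun u => D.ord u % 5 == 0) 2 c2 = true := by decide +kernel

theorem ok3 : okOrdP D (irows RR) (fun u => D.ord u == 10 || D.ord u == 15 || D.ord u == 30) 3 c3 = true := by
  decide +kernel

theorem ok5 : okOrdP D (irows RR) (fun u => D.ord u % 2 == 0) 5 c5 = true := by decide +kernel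

theorem fin : Finite K0 := Nat.finite_of_card_ne_zero (by rw [card_K0]; norm_num)

theorem conj5 {z : K0} (hz : orderOf z = 5) (h : ¬ Nat.card (centralizer ({z} : Set K0)) ∣ 25) : IsConj (xs 5) z := by
  have := fin
  obtain ⟨j, hj⟩ := classes.1 z
  obtain ⟨g, hg⟩ := isConj_iff.1 hj
  rw [← TAB.Sm1.card_cent_conj hj, classes.2] at h
  rw [← hg, ← MulAut.conj_apply, MulEquiv.orderOf_eq, order_xs] at hz
  rwa [(by decide : ∀ j : Fin 24, os j = 5 → ¬ cc j ∣ 25 → j = 5) j hz h] at hj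

theorem rel : ∃ a b w : K0, Heis.Rel 5 a b w := by
  have := fin
  have := Fact.mk Nat.prime_five
  obtain ⟨T, -⟩ := tabK
  refine exists_rel (y := xs 6) (by rw [card_K0]; norm_num) (by rw [card_K0]; norm_num) (fun g => ?_)
    (orderOf_dvd_iff_pow_eq_one.1 (order_xs 6).dvd) (by rw [classes.2]; decide)
  rw [T.ord]
  exact (by decide : ∀ i < D.n, D.ord i ≠ 5 ^ 2 ∧ D.ord i ≠ 5 ^ 3) _ (T.lt g)

theorem eb5 {p : ℕ} [Fact p.Prime] (hp : p = 2 ∨ p = 3) : EB p 3 (xs 5) 20 ∧ ∀ y : K0, orderOf y = 5 → EB p 3 y 16 := by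
  have := fin
  obtain ⟨a, b, w, H⟩ := rel
  have h5 : 5 ≠ p := by omega
  have h1 : EB p 3 w 20 := eb_heis (p := p) (m := 3) Nat.prime_five h5 (by norm_num) H {1, 2, 3, 4} fun j hj => by
    obtain ⟨l, -, e⟩ : ∃ l < 4, j = ((1 * p ^ l : ℕ) : ZMod 5) := by
      rcases hp with rfl | rfl <;> revert j <;> decide
    exact ⟨1, 1, l, by group, e⟩
  have := Fact.mk Nat.prime_five
  refine ⟨h1.conj (conj5 (Heis.orderOf_w H) fun e => ?_), fun y hy =>
    eb_heis_all Nat.prime_five h5 (by norm_num) H (by rw [card_K0]; norm_num) h1 (by decide) (by decide) hy⟩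
  have h2 := card_dvd_of_le (show Heis.gp H ≤ centralizer {w} from fun x hx =>
    mem_centralizer_singleton_iff.2 (Heis.w_comm H hx).symm)
  exact absurd ((Heis.card H ▸ h2).trans e) (by norm_num)

theorem rowK (p : ℕ) [hp : Fact p.Prime] : Row p K0 := by
  have := fin
  obtain ⟨T, hm, hr, hT, -⟩ := tabK
  obtain ⟨e⟩ := iso_K0
  have h1 : T.ty 1 = 0 := ty_one (by decide +kernel)
  have hW := irr_irows hT
  have ho : Nat.card (Out K0) = 2 := (H55.OutGen.card_out_congr e).trans S2073.result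
  have hz : Zc p K0 3 := (zc_of_cyclic S2047.result).of_equiv e
  have t2 : ∀ t : K0, orderOf t = 2 → T.ty t = 1 := fun t ht =>
    List.mem_singleton.1 (ty_mem (L := [1]) (by decide +kernel) ht)
  by_cases h2 : p = 2
  · subst h2
    have h3 : ∀ t : K0, orderOf t = 2 → EB 2 3 t 8 := fun t ht => by
      obtain ⟨a, ha⟩ := exists_prod_dvd h1 hW ok2 ht
      exact eb_of_dvd ha (eb5 (Or.inl rfl)).2 (by norm_num)
    obtain ⟨-, -, hc, ⟨L⟩⟩ := TypeM.FactsMcL.facts iso_K0
    refine ⟨row88_two ho.dvd hz fun E hE j h4 hj => ?_, row89_two (e := 3) ho.dvd hz (by rw [hc]; norm_num)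
      (by norm_num) (fun t ht => (h3 t ht).mono (by norm_num)) fun E hE h4 α h5 =>
        TypeM.OuterMcL.inner_of_fix L (TypeM.OuterInst.exPerm L (by norm_num)) (TypeM.OuterInst.evenInner L (Or.inl rfl)
          (TypeM.FactsAut.gen L (Or.inl ⟨rfl, hc⟩))) (fun x hx => by rw [← pow_two, hE.2 x hx]) h4 h5⟩
    have h5 := pure_dvd (hW ((irows RR).getD 1 []) (by decide +kernel)) h1
      fun a ha h5 => t2 a (orderOf_eq_prime (hE.2 a ha) h5)
    rw [hj, show nth ((irows RR).getD 1 []) 0 - nth ((irows RR).getD 1 []) 1 = (16 : ℕ) by decide +kernel,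
      Int.natCast_dvd_natCast] at h5
    have h6 : j ≤ 4 := not_lt.1 fun e => absurd ((pow_dvd_pow 2 e).trans h5) (by norm_num)
    obtain ⟨t, h7, h8⟩ := exists_elt (by omega) hj
    exact ⟨t, h7, (h3 t h8).mono (by omega)⟩
  have ho' : ¬ p ∣ Nat.card (Out K0) := fun e => h2 ((Nat.prime_dvd_prime_iff_eq hp.out Nat.prime_two).1 (ho ▸ e))
  by_cases h3 : p = 3
  · subst h3
    refine row_three (e := 5) ho' hz (fun E hE => ?_) fun t ht => ?_
    · obtain ⟨j, hj⟩ := (elemAb_isPGroup hE).exists_card_eq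
      have h4 := le_of_card hj (e := 6) (by rw [card_K0]; norm_num)
      refine hj ▸ Nat.pow_le_pow_right (by norm_num) (Nat.le_of_lt_succ (h4.lt_of_ne ?_))
      rintro rfl
      have h5 : orderOf (xs 11) = 9 := order_xs 11
      obtain ⟨u, h6, h7⟩ := exists_conj (s := xs 11) (e := 2) hj (by rw [card_K0]; norm_num)
        (orderOf_dvd_iff_pow_eq_one.1 h5.dvd)
      obtain ⟨g, hg⟩ := isConj_iff.1 h7
      have h8 : xs 11 ^ 3 = 1 := by rw [← hg, conj_pow, hE.2 u h6, mul_one, mul_inv_cancel]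
      exact absurd (h5 ▸ orderOf_dvd_of_pow_eq_one h8) (by norm_num)
    · obtain ⟨a, ha⟩ := exists_prod_ord h1 hW ok3 ht
      rw [← T.ord] at ha
      refine EB.prod (a := a) (l := 6) ((eb5 (Or.inr rfl)).1.conj (conj5 ?_ fun e => ?_).symm) (by norm_num)
      · rw [orderOf_pow]
        simp only [Bool.or_eq_true, beq_iff_eq] at ha
        rcases ha with (e | e) | e <;> rw [e] <;> rfl
      · have h4 := ((centralizer _).orderOf_dvd_natCard (mem_centralizer_singleton_iff.2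
          (Commute.self_pow (a * t * a⁻¹ * t) 6).eq)).trans e
        simp only [Bool.or_eq_true, beq_iff_eq] at ha
        rcases ha with (e | e) | e <;> rw [e] at h4 <;> exact absurd h4 (by norm_num)
  by_cases h5 : p = 5
  · subst h5
    obtain ⟨a, b, w, H⟩ := rel
    obtain ⟨V, h4, h5⟩ := H212.TI.exists_V iso_K0
    have h6 : ∀ g ∈ V, g ^ 2 = 1 := fun g hg => by
      by_cases e : g = 1
      · rw [e, one_pow]
      · rw [← h5 g hg e, pow_orderOf_eq_one]
    refine row_rank_two ho' hz (fun E hE j h4 hj => (heis_mem H (by rw [card_K0]; norm_num) hE h4 hj).1) fun t ht => ?_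
    obtain ⟨a, ha⟩ := exists_prod_dvd h1 hW ok5 ht
    refine eb_of_dvd ha (fun y hy => ?_) (n := 2 ^ 3) (by norm_num)
    have h7 : ∀ g : K0, orderOf g = 2 → g * g = 1 ∧ g ≠ 1 := fun g hg =>
      ⟨by rw [← pow_two, ← hg, pow_orderOf_eq_one], by rintro rfl; norm_num at hg⟩
    refine eb_pure Nat.prime_two (by norm_num) (by norm_num) (E := V) (elemAb_of (fun a ha b hb => ?_) h6) h4
      (fun a ha h => invol_conj (h7 a (h5 a ha h)).1 h (h7 y hy).1 (h7 y hy).2) (h7 y hy).2 (hy ▸ pow_orderOf_eq_one y)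
    have h8 : ∀ g ∈ V, g⁻¹ = g := fun g hg => inv_eq_of_mul_eq_one_left (by rw [← pow_two, h6 g hg])
    rw [← h8 _ (mul_mem ha hb), mul_inv_rev, h8 a ha, h8 b hb]
  refine SpA.row_of_card ho' (card_le_of_not_dvd fun h1 => ?_)
  rw [small_of_ne h2 h3, card_K0, show 898128000 = 2 ^ 7 * 3 ^ 6 * 5 ^ 3 * 77 by norm_num] at h1
  have h4 : ∀ {q : ℕ}, q.Prime → p ≠ q → ∀ n, Nat.Coprime (p ^ (1 + 1)) (q ^ n) := fun hq h n =>
    ((Nat.coprime_primes hp.out hq).2 h).pow _ _
  have h6 := (((h4 Nat.prime_two h2 7).mul_right (h4 Nat.prime_three h3 6)).mul_right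
    (h4 (by norm_num) h5 3)).dvd_of_dvd_mul_left h1
  exact hp.out.one_lt.ne' (Nat.isUnit_iff.1 ((by decide +kernel : Squarefree 77) p (by rwa [← pow_two])))

/-- **the row of `McL`** -/
theorem row (p : ℕ) [Fact p.Prime] : Row p Spor.McL := iso_K0.elim fun e => (rowK p).of_equiv e.symm

end Cfsg.Agent.TwoF.SpE.McL
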