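import Cfsg.Agent.TwoF.SpE.SuzTwo
import Cfsg.Agent.TwoF.SpE.SuzGrp
import Cfsg.Agent.TwoF.XL.Abs

/-!
# TwoF / SP: the row of `Suz` in characteristic three (helper95)
-/

set_option autoImplicit false
set_option maxHeartbeats 400000
set_option maxRecDepth 100000

namespace Cfsg.Agent.TwoF.SpE.Suz

open Cfsg Subgroup Module Cfsg.Agent.TwoF.Gen Cfsg.Agent.TwoF.SpD Cfsg.Agent.TwoF.XL Cfsg.Agent.SuzThree
open Cfsg.Agent.SuzThree.Elementary Cfsg.Agent.SuzThree.NormElts Cfsg.Agent.SuzThree.NormAct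
open Cfsg.Spor (Suz)
open Cfsg.Agent.SuzThree.Elts (x Ix)
open Cfsg.Agent.SporadicRecognition.SuzOrder (el card_Suz)
open Cfsg.Agent.BpSpor.SuzThreeCentral (finSuz)
open Cfsg.Agent.H58.SuzRep (Y z q q_z orderOf_z)

section core

variable {K : Type} [Group K] [Finite K] {U : Type} [AddCommGroup U] [Module (ZMod 3) U] [Finite U]
  {σ : Representation (ZMod 3) K U}

/-- the subgroups of an irreducible `3 ^ 5` without offenders -/
theorem eq_of_near {J : Subgroup K} (hJ : IsElementaryAbelian 3 J) (hc : Nat.card J = 3 ^ 5)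
    (hi : ∀ B ≤ J, normalizer (J : Set K) ≤ normalizer (B : Set K) → B = ⊥ ∨ B = J) (ho : ∀ B ≤ J, ¬ Off 3 σ B)
    (h6 : ∀ t : K, t ^ 3 = 1 → t ≠ 1 → 6 ≤ cod σ (zpowers t)) (r : ℕ) :
    ∀ X ≤ J, 0 < r → Nat.card X = 3 ^ r → cod σ X ≤ 2 * r + 1 → X = J := by
  have k : ∀ B ≤ J, ∃ s ≤ 5, Nat.card B = 3 ^ s := fun B hB =>
    (Nat.dvd_prime_pow Nat.prime_three).1 ((card_dvd_of_le hB).trans hc.dvd)
  induction r using Nat.strong_induction_on with
  | _ r ih =>
  intro X hX hr h1 h2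
  obtain ⟨t, ht, h3⟩ := exists_elt hr h1
  have h4 := (h6 t (h3 ▸ pow_orderOf_eq_one t) (by rintro rfl; simp at h3)).trans (cod_mono (zpowers_le.2 ht))
  refine by_contra fun hn => hn ((hi X hX fun g hg => map_conj_eq_iff.1 ?_).resolve_left fun e => ?_)
  · have h5 : X.map (MulAut.conj g).toMonoidHom ≤ J := (map_mono hX).trans (map_conj_eq_iff.2 hg).le
    obtain ⟨a, ha, h7⟩ := k _ (sup_le hX h5)
    obtain ⟨b, hb', h8⟩ := k _ (inf_le_left.trans hX : X ⊓ X.map (MulAut.conj g).toMonoidHom ≤ J)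
    have h9 := card_mul_card_le X (X.map (MulAut.conj g).toMonoidHom)
    have h10 := cod_sup_add_inf (ρ := σ) X (X.map (MulAut.conj g).toMonoidHom)
    rw [card_map_conj, h1, h7, h8, ← pow_add, ← pow_add, Nat.pow_le_pow_iff_right (by norm_num)] at h9
    rw [cod_conj] at h10
    have h11 : ¬ cod σ (X ⊔ X.map (MulAut.conj g).toMonoidHom) ≤ 2 * a := fun e =>
      ho _ (sup_le hX h5) (off_of_card (elemAb_of_le hJ (sup_le hX h5)) (by omega) h7 e)
    by_cases hb : b < r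
    · exact absurd (le_antisymm hX ((ih b hb _ (inf_le_left.trans hX) (by omega) h8 (by omega)).ge.trans inf_le_left)) hn
    · exact (eq_of_le_of_card_ge inf_le_right (by
        rw [card_map_conj, h1, h8]; exact Nat.pow_le_pow_right (by norm_num) (by omega))).symm.trans
        (eq_of_le_of_card_ge inf_le_left (by rw [h1, h8]; exact Nat.pow_le_pow_right (by norm_num) (by omega)))
  · rw [e, card_bot] at h1
    exact absurd h1.symm (Nat.one_lt_pow hr.ne' (by norm_num)).ne'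

variable {π : K →* Suz} (hk : π.ker ≤ center K) (hm : Nat.card π.ker ∣ 2)

theorem cop : Nat.Coprime 3 2 := by norm_num

theorem eA : IsElementaryAbelian 3 A0 := elemAb_of (fun _ ha _ hb => comm_A0 ha hb) fun _ => cube_A0

include hk hm

omit [Finite K] in
theorem mem_of_map {H : Subgroup K} {j : K} (hj : j ^ 3 = 1) (h : π j ∈ H.map π) : j ∈ H := by
  obtain ⟨u, hu, e⟩ := h
  obtain ⟨v, h1, h2, h3⟩ := lift_mem hm cop (x := u) (by rw [e, ← map_pow, hj, map_one])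
  exact lift_unique hk hm cop (h2.trans e) h3 hj ▸ zpowers_le.2 hu h1

theorem norm_lift {X : Subgroup K} (hX : ∀ a ∈ X, a ^ 3 = 1) {g : K} (h : π g ∈ normalizer (X.map π : Set Suz)) :
    g ∈ normalizer (X : Set K) :=
  mem_normalizer_fintype fun a ha => mem_of_map hk hm (by rw [conj_pow, hX a ha, mul_one, mul_inv_cancel]) (by
    rw [map_mul, map_mul, map_inv]
    exact (mem_normalizer_iff.1 h _).1 (mem_map_of_mem π ha))

theorem core (hs : Function.Surjective π) (h6 : ∀ t : K, t ^ 3 = 1 → t ≠ 1 → 6 ≤ cod σ (zpowers t)) {A : Subgroup K}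
    (hA : Off 3 σ A) : ∃ B, Off 3 σ B ∧ Cub σ B := by
  have := finSuz
  by_contra hc
  push Not at hc
  obtain ⟨J, hJ, j0, j1⟩ : ∃ J : Subgroup K, IsElementaryAbelian 3 J ∧ Nat.card J = 3 ^ 5 ∧
      ∀ a, a ∈ J ↔ π a ∈ A0 ∧ a ^ 3 = 1 := ⟨lf hk hm cop eA, lf_elemAb, (card_lf hs).trans card_A0, fun _ => mem_lf⟩
  have j2 : J.map π = A0 := le_antisymm (map_le_iff_le_comap.2 fun a ha => ((j1 a).1 ha).1) fun a ha => by
    obtain ⟨u, h1, h2⟩ := lift_exists hs hm cop (cube_A0 ha)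
    exact ⟨u, (j1 u).2 ⟨h1 ▸ ha, h2⟩, h1⟩
  have j3 : ∀ H : Subgroup K, A0 ≤ H.map π → J ≤ H := fun H h a ha => mem_of_map hk hm (hJ.2 a ha) (h ((j1 a).1 ha).1)
  have j4 : ∀ B ≤ J, normalizer (J : Set K) ≤ normalizer (B : Set K) → B = ⊥ ∨ B = J := fun B hB h => by
    refine (irr (H := NA) y_mem (B.map π) (j2 ▸ map_mono hB) ?_).imp (fun e => eq_bot_iff.2 fun a ha =>
      mem_of_map hk hm (hJ.2 a (hB ha)) (by rw [Subgroup.map_bot, ← e]; exact mem_map_of_mem π ha))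
      fun e => le_antisymm hB (j3 B e.ge)
    rintro n hn _ ⟨b, hb, rfl⟩
    obtain ⟨g, rfl⟩ := hs n
    exact ⟨_, (mem_normalizer_iff.1 (h (norm_lift hk hm hJ.2 (g := g) (by rw [j2]; exact hn))) b).1 hb, by
      rw [map_mul, map_mul, map_inv]⟩
  have j5 : 2 * 5 + 1 ≤ cod σ J := by
    have k : ∀ d < 5, 0 < d → 3 ^ d % 11 ≠ 1 % 11 := by decide
    have := Fact.mk (by norm_num : Nat.Prime 11)
    refine not_lt.1 fun e => e.not_ge (layers_frame π (fun e => absurd (e.trans hm) (by norm_num)) hJ (N := NA)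
      (X := zpowers (el yw)) (s := 11) (fun a _ => hs a) (by rw [j2]) (zpowers_le.2 y_mem) (fun H h1 h2 h3 => ?_)
      (hc J (off_of_card hJ (by norm_num) j0 (by omega))) (by rw [Nat.card_zmod]; norm_num)
      (IsPGroup.of_card (n := 1) (by rw [Nat.card_zpowers, ord_y, pow_one])) fun d h1 h2 => by
        rw [Nat.card_zmod]; exact k d h2 h1)
    rw [j2]
    exact ⟨noLin_of_irr h2 (irr (zpowers_le.1 h1)) (by rw [Nat.card_zmod, card_A0]; norm_num),
      oneForm_of_card eA h2 (irr (zpowers_le.1 h1)) (v_mem (zpowers_le.1 h1) h3) card_v⟩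
  have j6 : ∀ B ≤ J, ¬ Off 3 σ B := fun B hB h => by
    obtain ⟨C, h1, h2, h3, -⟩ := lattice (by norm_num) hJ h hB
    obtain rfl := (j4 C h1 h3).resolve_left h2.2.1
    obtain ⟨r, -, h4, h5⟩ := h2.exists_card
    obtain rfl := Nat.pow_right_injective (by norm_num : 2 ≤ 3) (h4.symm.trans j0)
    omega
  have j7 : ∀ (g : K) (B : Subgroup K), (B.map (MulAut.conj g).toMonoidHom).map π =
      (B.map π).map (MulAut.conj (π g)).toMonoidHom := fun g B => by
    rw [map_map, map_map]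
    exact congrArg (map · B) (MonoidHom.ext fun a => by simp)
  obtain ⟨P, hP, hK⟩ := H212.SuzFive.exists_sylow
  obtain ⟨A, hA, h1⟩ : ∃ A, Off 3 σ A ∧ A.map π ≤ P := by
    obtain ⟨Q, hQ⟩ := (elemAb_isPGroup (elemAb_map hA.1 π)).exists_le_sylow
    obtain ⟨g, rfl⟩ := MulAction.exists_smul_eq Suz Q P
    obtain ⟨g, rfl⟩ := hs g
    exact ⟨_, hA.conj g, (j7 g A).le.trans (map_mono hQ)⟩
  have h2 : Nat.card (A.map π) = Nat.card A := by
    rw [← card_lf (hk := hk) (hm := hm) (hr := cop) (hE := elemAb_map hA.1 π) hs]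
    exact congrArg (fun B : Subgroup K => Nat.card B) (le_antisymm (fun a ha => mem_of_map hk hm ha.2 ha.1)
      fun a ha => ⟨mem_map_of_mem π ha, hA.1.2 a ha⟩)
  obtain ⟨r, -, h3, h4⟩ := hA.exists_card
  have h5 : 4 ≤ r := not_lt.1 fun e => hc A hA (SpO.cub_of_rank (e := 3) hA
    (h3 ▸ Nat.pow_le_pow_right (by norm_num) (by omega)) fun a ha => h6 a (hA.1.2 a ha))
  obtain ⟨h7, ⟨a, ha, ea⟩, ⟨b, hb, eb⟩, h8⟩ := struct hP hK
    (by rw [P.card_eq_multiplicity, H212.SuzFive.fac_three]) (elemAb_map hA.1 π) h1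
    (by rw [h2, h3]; exact Nat.pow_le_pow_right (by norm_num : 0 < 3) h5)
    fun e => j6 A (fun a ha => (j1 a).2 ⟨e (mem_map_of_mem π ha), hA.1.2 a ha⟩) hA
  rw [h2, h3, show 81 = 3 ^ 4 from rfl, Nat.pow_le_pow_iff_right (by norm_num)] at h7
  obtain ⟨u, hu, eu⟩ : x .i2 ∈ J.map π := j2.symm ▸ x_mem _
  have h9 : ∀ c ∈ A, π c ∈ A0 → c ∈ A ⊓ A.map (MulAut.conj u).toMonoidHom := fun c h e =>
    ⟨h, c, h, mul_inv_eq_iff_eq_mul.2 (elemAb_comm hJ hu ((j1 c).2 ⟨e, hA.1.2 c h⟩))⟩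
  have h10 := cod_sup_add_inf (ρ := σ) A (A.map (MulAut.conj u).toMonoidHom)
  rw [cod_conj] at h10
  rw [← eu, ← j7, ← Subgroup.map_sup] at h8
  by_cases h11 : cod σ (A ⊓ A.map (MulAut.conj u).toMonoidHom) ≤ 6
  · have h12 := zpowers_le.2 (h9 a ha (ea ▸ x_mem _))
    have h13 := le_cl_of_cod_le h12 (h11.trans (h6 a (hA.1.2 a ha) fun e => by
      have h := orderOf_x .i0
      rw [← ea, e, map_one, orderOf_one] at h
      omega)) (h9 b hb (eb ▸ x_mem _))
    have h14 := cod_le_of_le_cl (j3 (cl σ (zpowers a)) (A0_le fun f => ?_))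
    · have h15 := cod_mono (ρ := σ) h12
      omega
    by_cases hf : f = .i0
    · exact ⟨a, le_cl _ (mem_zpowers a), hf ▸ ea⟩
    obtain ⟨h14, h15⟩ := FourTrans.lev1 f hf
    rw [← npr_smul] at h14 h15
    obtain ⟨g, hg⟩ := hs (npr (FourTrans.tt1 f))
    have h16 := smul_spec (npr (FourTrans.tt1 f)) .i0
    have h17 := smul_spec (npr (FourTrans.tt1 f)) .i1
    rw [h14, ← hg] at h16
    rw [h15, ← hg, Sp, ← eb, ← map_inv, ← map_mul, ← map_mul] at h17
    have h18 := mem_map_of_mem π (conj_mem_cl (norm_lift hk hm (elemAb_zpowers (hA.1.2 a ha)).2 (g := g)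
      (map_conj_eq_iff.1 (by
        rw [MonoidHom.map_zpowers, MonoidHom.map_zpowers, ea]
        exact h16.elim (congrArg _) fun e => (congrArg _ e).trans zpowers_inv))) h13)
    exact h17.elim (· ▸ h18) fun e => inv_mem_iff.1 (e ▸ h18)
  have hX := elemAb_of_le eA (inf_le_right : (A ⊔ A.map (MulAut.conj u).toMonoidHom).map π ⊓ A0 ≤ A0)
  obtain ⟨s, -, h12⟩ := card_pow (inf_le_right : (A ⊔ A.map (MulAut.conj u).toMonoidHom).map π ⊓ A0 ≤ A0)
  have h13 := cod_mono (ρ := σ) (show lf hk hm cop hX ≤ _ from fun c h => mem_of_map hk hm h.2 h.1.1)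
  rw [h12, show 81 = 3 ^ 4 from rfl, Nat.pow_le_pow_iff_right (by norm_num)] at h8
  rw [eq_of_near hJ j0 j4 j6 h6 s (lf hk hm cop hX) (fun c h => (j1 c).2 ⟨h.1.2, h.2⟩) (by omega)
    ((card_lf hs).trans h12) (by omega)] at h13
  omega

end core

theorem kk4 : eqz (ml (0, [.e]) (0, [.e])) (3, []) = true := by decide +kernel

variable {Γ : Type} [Group Γ] [Finite Γ] {U : Type} [AddCommGroup U] [Module (ZMod 3) U] [Finite U]
  {K : Subgroup Γ} {ρ : Representation (ZMod 3) Γ U} {π : K →* Suz} {φ : Γ →* MulAut Suz}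

theorem six (H : Sit 3 K ρ π φ) (hm : Nat.card π.ker ∣ 2) (t : K) (ht : t ^ 3 = 1) (h1 : t ≠ 1) :
    6 ≤ cod (ρ.comp K.subtype : Representation (ZMod 3) K U) (zpowers t) := by
  obtain ⟨f, hf, hq⟩ := exists_cov H.toStp.perfect.commutator_eq_top H.surj H.ker_π.le
  let σ : Representation (ZMod 3) K U := ρ.comp K.subtype
  have hσ : Function.Injective σ := H.faithful.comp K.subtype_injective
  have h0 : ∀ {w}, el w ≠ 1 → 0 < cod σ (zpowers (f (val (0, w)))) := fun h => cod_pos hσ fun e => h (by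
    rw [← q_val (0, _), ← hq, zpowers_eq_bot.1 e, map_one])
  obtain ⟨a, ha⟩ := prod_three (ord_img H (congrArg Subtype.val ht) fun e => h1 (Subtype.ext e))
  obtain ⟨a, rfl⟩ := H.surj a
  obtain ⟨g, hg⟩ := isConj_iff.1 ha
  obtain ⟨g, rfl⟩ := H.surj g
  have h2 := (SpO.cod_pow_le (ρ := σ) _ 7).trans (SpO.cod_prod_le a t)
  obtain ⟨y, hy⟩ := hf ((a * t * a⁻¹ * t) ^ 7 * (g * f (val (0, [.e])) * g⁻¹)⁻¹)
  obtain ⟨i, rfl⟩ := ker_q (y := y) (by
    rw [← hq, hy, map_mul, map_inv, mul_inv_eq_one]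
    simp only [map_mul, map_inv, map_pow, hq, q_val, hg])
  rw [eq_mul_inv_iff_mul_eq, map_pow] at hy
  rw [← hy] at h2
  change 6 ≤ cod σ _
  by_cases hz : f z = 1
  · have h3 := wt2 σ f (by decide) hz (h0 a_ne)
    rw [hz, one_pow, one_mul, cod_zpowers_conj] at h2
    omega
  have h3 := (hq z).trans q_z
  have h4 := ker_pow hm h3
  have h5 := wt5 σ f (by decide) (h0 (el_ne 1 3 (by decide +kernel)))
  have h6 := SpO.cod_pow_le (ρ := σ) (f z ^ i * (g * f (val (0, [.e])) * g⁻¹)) 2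
  have h7 := fun g => mem_center_iff.1 (H.ker_π.le h3) g
  rw [(Commute.pow_left (h7 _).symm i).mul_pow, ← pow_mul, mul_comm i, pow_mul, h4, one_pow, one_mul, conj_pow,
    cod_zpowers_conj, pow_two, ← map_mul, ← val_ml, val_eq kk4, val_z, map_pow, pow_succ, h4, one_mul,
    cod_of_fx_eq_bot (by rw [fx_comp, MonoidHom.map_zpowers]; exact fpf H Nat.prime_two hm h3 hz)] at h6
  omega

theorem row_three : Row 3 Suz := by
  have ho : ¬ 3 ∣ Nat.card (Out Suz) := by rw [S2074.result]; norm_num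
  refine ⟨row88_of_sit fun _ _ _ _ _ _ _ K ρ π _ H A hA => ?_, row89_of_not_dvd ho⟩
  have hm := (zc_of_mul (m := 2) Nat.prime_three S2048.result).ker_π H
  obtain ⟨B, h1, h2⟩ := core H.ker_π.le hm H.surj (six H hm) (SpB.off_comap K.subtype K.subtype_injective
    ((H.toFrm.le_of_not_dvd (elemAb_isPGroup hA.1) ho).trans K.range_subtype.ge) hA)
  exact ⟨_, SpB.off_map _ K.subtype_injective h1, (cub_comp _ _).1 h2⟩

end Cfsg.Agent.TwoF.SpE.Suz
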