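import Cfsg.Agent.TwoF.SpE.SuzWt
import Cfsg.Agent.TwoF.SpE.SuzTab
import Cfsg.Agent.H997.OutSuz
import Cfsg.Agent.TwoF.SpE.Lin
import Cfsg.Agent.S2074

/-!
# TwoF / SP: the row of `Suz` in characteristic two (helper95)
-/

set_option autoImplicit false
set_option maxHeartbeats 400000
set_option maxRecDepth 100000

namespace Cfsg.Agent.TwoF.SpE.Suz

open Cfsg Subgroup Module Cfsg.Agent.TwoF.Gen Cfsg.Agent.TwoF.SpD Cfsg.Agent.TwoF.XE Cfsg.Agent.H58.SuzRep
open Cfsg.Spor (Suz)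
open Cfsg.Agent.SporadicRecognition.SuzOrder (el card_Suz)
open Cfsg.Agent.KFacts.SuzRho (rho rho_el rho_sq sw)

/-- a central element of a setting has no fixed vector -/
theorem fpf {p : ℕ} [Fact p.Prime] {Γ : Type} [Group Γ] [Finite Γ] {V : Type} [AddCommGroup V] [Module (ZMod p) V]
    {K : Subgroup Γ} {ρ : Representation (ZMod p) Γ V} {S : Type} [Group S] {π : K →* S} {φ : Γ →* MulAut S}
    (H : Sit p K ρ π φ) {r : ℕ} (hr : r.Prime) (hm : Nat.card π.ker ∣ r) {c : K} (hc : π c = 1) (h1 : c ≠ 1) :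
    fx ρ (zpowers (c : Γ)) = ⊥ := by
  have := H.normal
  have h2 : zpowers (c : Γ) ≤ centralizer K := zpowers_le.2 (H.toFrm.π_eq_one_iff.1 hc)
  have h3 : zpowers (c : Γ) ≠ ⊥ := fun e => h1 (Subtype.ext (zpowers_eq_bot.1 e))
  rw [H.ker_π, ← H.toStp.card_centralizer] at hm
  have h4 := ((Nat.dvd_prime hr).1 ((card_dvd_of_le h2).trans hm)).resolve_left fun e => h3 (card_eq_one.1 e)
  refine H.irr.fx_eq_bot H.faithful ?_ h3
  rw [eq_of_le_of_card_ge h2 (h4 ▸ Nat.le_of_dvd hr.pos hm), normalizer_eq_top]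

theorem kk2 : eqz (ml (0, [.c]) (0, [.c])) (0, []) = true ∧ eqz (ml (0, [.d]) (0, [.d])) (3, []) = true ∧
    eqz (ml (ml (F3 0) (0, [.d])) (F3 0)) (0, [.d]) = true ∧ eqz (pl F3 [0, 0, 0]) (0, []) = true ∧
    eqm (0, [.b, .a, .b, .a, .c, .b] ++ [.c]) (0, [.a] ++ [.b, .a, .b, .a, .c, .b]) = true ∧
    eqm (0, [.d, .e] ++ [.d]) (0, [.e] ++ [.d, .e]) = true := by decide +kernel

section cov

variable {K : Type} [Group K] [Finite K] {π : K →* Suz} {f : Y →* K} {k : Type} [Field k] {V : Type} [AddCommGroup V]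
  [Module k V] [FiniteDimensional k V] {τ : Representation k K V}

omit [Finite K] in
theorem lift_le (hs : Function.Surjective π) (hk : π.ker ≤ center K) (hm : Nat.card π.ker ∣ 3) {t y : K}
    (ht : t ^ 2 = 1) (h : IsConj (π t) (π y)) : cod τ (zpowers t) ≤ cod τ (zpowers y) := by
  obtain ⟨g, hg⟩ := isConj_iff.1 h
  obtain ⟨x, h1, h2, h3⟩ := lift_mem (r := 2) (x := y) hm (by norm_num)
    (by rw [← hg, conj_pow, ← map_pow, ht, map_one, mul_one, mul_inv_cancel])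
  exact (cod_conj' (lift_conj hs hk hm (by norm_num) (h2 ▸ h) ht h3)).le.trans (cod_mono (zpowers_le.2 h1))

/-- the involutions -/
theorem invol (hs : Function.Surjective π) (hk : π.ker ≤ center K) (hm : Nat.card π.ker ∣ 3) (hq : ∀ x, π (f x) = q x)
    (h3 : (3 : k) ≠ 0) (hτ : Function.Injective τ) : (∃ x, 12 ≤ cod τ (zpowers x)) ∧
      (∀ y, IsConj (el [.e]) (π y) → 6 ≤ cod τ (zpowers y)) ∧
      ∀ y, orderOf (π y) = 2 → 4 ≤ cod τ (zpowers y) ∧ (f z = 1 → 17 ≤ cod τ (zpowers y)) := by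
  obtain ⟨k1, k2, k3, k4, k5, k6⟩ := kk2
  obtain ⟨h1, h2⟩ := wt3 τ f h3 (cod_pos hτ fun e => by
    have h := SuzThree.Elementary.orderOf_x .i0
    rw [show SuzThree.Elts.x .i0 = q (val (F3 0)) from (q_val (F3 0)).symm, ← hq, zpowers_eq_bot.1 e, map_one,
      orderOf_one] at h
    omega)
  have h4 : f (val (0, [.c])) ^ 2 = 1 := by
    rw [pow_two, ← map_mul, ← val_ml, val_eq k1, val_nil, map_one]
  have h5 : f (val (0, [.d])) ^ 2 = 1 := by
    rw [pow_two, ← map_mul, ← val_ml, val_eq k2, val_z, map_pow,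
      ker_pow hm ((hq z).trans q_z)]
  have h6 := congrArg f (val_eq k3)
  have h7 := congrArg f (val_eq k4)
  rw [val_ml, val_ml, map_mul, map_mul] at h6
  rw [val_pl, val_nil, map_one, show [0, 0, 0] = List.replicate 3 0 from rfl, List.map_replicate, List.prod_replicate,
    map_pow] at h7
  have h8 := cod_le_of_inverts (ρ := τ) (Odd.of_dvd_nat (by decide) (orderOf_dvd_of_pow_eq_one h7))
    (a := f (val (0, [.d]))) (by rw [mul_inv_eq_iff_eq_mul, eq_inv_mul_iff_mul_eq, ← mul_assoc, h6])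
  have h9 : ∀ y, IsConj (el [.e]) (π y) → cod τ (zpowers (f (val (0, [.d])))) ≤ cod τ (zpowers y) := fun y hy =>
    lift_le hs hk hm h5 (by rw [hq, q_val]; exact (el_conj _ k6).trans hy)
  refine ⟨⟨_, h1.2⟩, fun y hy => by have := h9 y hy; omega, fun y hy => ?_⟩
  rcases CTwoTab.Suz.classes (t := π y) (by rw [← pow_two, ← hy, pow_orderOf_eq_one]) (fun e => by
    rw [e, orderOf_one] at hy
    omega) with e | e
  · have h10 := lift_le (τ := τ) (y := y) hs hk hm h4 (by rw [hq, q_val]; exact (el_conj _ k5).trans e)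
    exact ⟨h1.1.trans h10, fun e => (h2 e).1.trans h10⟩
  · have h10 := h9 y e
    exact ⟨by omega, fun e => by have := h2 e; omega⟩

end cov

/-- the letters `b, f, g` -/
def gb : ℕ → Spor.Suz.Gen
  | 0 => .b
  | 1 => .f
  | _ => .g

theorem kk3 : eqz (pl (fun i => (0, [gb i])) [0, 1, 2, 0, 1, 2, 0, 1, 2, 0, 1, 2, 0, 1, 2]) (1, []) = true ∧
    eqz (pl (fun i => (0, [sw (gb i)])) [0, 1, 2, 0, 1, 2, 0, 1, 2, 0, 1, 2, 0, 1, 2]) (5, []) = true ∧
    ∀ x ∈ [Spor.Suz.Gen.b, .f, .g], eqz (ml (0, [x]) (0, [x])) (0, []) = true := by decide +kernel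

variable {Γ : Type} [Group Γ] [Finite Γ] {V : Type} [AddCommGroup V] [Module (ZMod 2) V] [Finite V]
  {K : Subgroup Γ} {ρ : Representation (ZMod 2) Γ V} {π : K →* Suz} {φ : Γ →* MulAut Suz}

omit [Finite Γ] [Finite V] in
/-- the outer elements invert the centre -/
theorem inverts (H : Sit 2 K ρ π φ) (hm : Nat.card π.ker ∣ 3) {f : Y →* K} (hq : ∀ x, π (f x) = q x) {u : Γ}
    (hu : u ∉ K) : u * f z * u⁻¹ = (f z : Γ)⁻¹ := by
  have := H.normal
  obtain ⟨k1, k2, k3⟩ := kk3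
  obtain ⟨g, hg⟩ := (mul_mem_iff_of_index_two (H := Inn Suz) S2074.result (a := φ u) (b := rho)).2
    (iff_of_false (fun e => hu (H.toFrm.mem_inn_iff.1 e)) fun ⟨n, e⟩ => H997.OutSuz.rho_outer n e.symm)
  obtain ⟨g, rfl⟩ := H.surj g
  have h1 : φ ((g : Γ)⁻¹ * u) = rho := by
    rw [map_mul, map_inv, H.toFrm.φ_coe, hg, mul_inv_rev, inv_mul_cancel_right, inv_eq_of_mul_eq_one_right rho_sq]
  have h2 : ∀ x ∈ [Spor.Suz.Gen.b, .f, .g], f (val (0, [x])) ^ 2 = 1 := fun x hx => by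
    rw [pow_two, ← map_mul, ← val_ml, val_eq (k3 x hx), val_nil, map_one]
  have h3 : ∀ i, gb i ∈ [Spor.Suz.Gen.b, .f, .g] ∧ sw (gb i) ∈ [Spor.Suz.Gen.b, .f, .g] := fun i => by
    rcases i with _ | _ | i <;> exact ⟨by simp [gb], by simp [gb, sw]⟩
  let α : MulAut K := MulAut.conjNormal ((g : Γ)⁻¹ * u)
  have h4 : ∀ i, α (f (val (0, [gb i]))) = f (val (0, [sw (gb i)])) := fun i =>
    lift_unique (r := 2) H.ker_π.le hm (by norm_num) (by
      rw [← H.conj _ _ _ (MulAut.conjNormal_apply _ _), h1, hq, hq, q_val, q_val, rho_el]; rfl)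
      (by rw [← map_pow, h2 _ (h3 i).1, map_one]) (h2 _ (h3 i).2)
  have h5 : α (f z) = f z ^ 5 := by
    rw [← map_pow, ← val_z, ← val_eq k2, ← pow_one z, ← val_z, ← val_eq k1, val_pl, val_pl, map_list_prod,
      map_list_prod, map_list_prod, List.map_map, List.map_map, List.map_map]
    exact congrArg List.prod (List.map_congr_left fun i _ => h4 i)
  have h6 : f z ^ 5 = (f z)⁻¹ := eq_inv_of_mul_eq_one_left (by
    rw [← pow_succ, ← map_pow, show 5 + 1 = orderOf z from orderOf_z.symm, pow_orderOf_eq_one, map_one])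
  have h7 : g * (f z)⁻¹ * g⁻¹ = (f z)⁻¹ := by
    rw [mem_center_iff.1 (inv_mem (H.ker_π.le ((hq z).trans q_z))) g, mul_inv_cancel_right]
  have h8 := congrArg Subtype.val (h5.trans h6)
  rw [MulAut.conjNormal_apply] at h8
  have h9 := congrArg Subtype.val h7
  simp only [Subgroup.coe_mul, Subgroup.coe_inv] at h8 h9
  rw [← h9, ← h8]
  group

theorem key (H : Sit 2 K ρ π φ) {A : Subgroup Γ} (hA : Off 2 ρ A) : A ≤ K ∧ Cub ρ A := by
  have hm := (zc_of_mul (m := 3) Nat.prime_two S2048.result).ker_π H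
  obtain ⟨f, -, hq⟩ := exists_cov H.toStp.perfect.commutator_eq_top H.surj H.ker_π.le
  have ho : Nat.card (Out Suz) ∣ 2 := S2074.result.dvd
  have he : 2 ∣ Nat.card Suz := by rw [card_Suz]; norm_num
  obtain ⟨r, -, h1, h2⟩ := hA.exists_card
  obtain ⟨j, hj, h3, h4⟩ := rank_le H ho hA.1 h1
  have h5 := rank_seven (elemAb_img hA.1) hj
  let σ : Representation (ZMod 2) K V := ρ.comp K.subtype
  have hσ : Function.Injective σ := H.faithful.comp K.subtype_injective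
  have hc : ∀ x : K, cod σ (zpowers x) = cod ρ (zpowers (x : Γ)) := fun x => by
    rw [cod_comp, MonoidHom.map_zpowers]; rfl
  by_cases hz : f z = 1
  · have h6 := fun y hy => (((invol H.surj H.ker_π.le hm hq three_ne hσ).2.2 y hy).2 hz).trans (hc y).le
    obtain ⟨x, h7, h8⟩ := exists_inner H ho he (fun y hy => le_trans (by norm_num) (h6 y hy)) hA
    have h9 := (h6 x h8).trans (cod_mono (zpowers_le.2 h7))
    omega
  have hz1 := (hq z).trans q_z
  have hz3 := ker_pow hm hz1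
  have hzc := fun g => (mem_center_iff.1 (H.ker_π.le hz1) g).symm
  have hf := fpf H Nat.prime_three hm hz1 hz
  obtain ⟨k, _, _, _, _, τ, t1, t2, t3⟩ := half σ hzc hz3 (by rw [fx_comp, MonoidHom.map_zpowers]; exact hf)
  obtain ⟨⟨x0, i1⟩, i2, i3⟩ := invol (τ := τ) H.surj H.ker_π.le hm hq (by
    rw [show (3 : k) = 2 + 1 by norm_num, CharTwo.two_eq_zero, zero_add]; exact one_ne_zero)
    fun a b e => hσ (LinearMap.ext fun v => by rw [← t1, ← t1, e])
  obtain ⟨t, h6, h7⟩ : ∃ t : K, (t : Γ) ∈ A ∧ (6 ≤ cod τ (zpowers t) ∨ j ≤ 6 ∧ 4 ≤ cod τ (zpowers t)) := by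
    by_cases h : ∀ t ∈ (A.subgroupOf K).map π, ¬ IsConj (el [.e]) t
    · obtain ⟨x, h7, h8⟩ := exists_inner H ho he (fun y hy => by
        have := (i3 y hy).1
        rw [← hc, t2]
        omega) hA
      exact ⟨x, h7, Or.inr ⟨rank_six (elemAb_img hA.1) hj h, (i3 x h8).1⟩⟩
    · push Not at h
      obtain ⟨_, ⟨t, ht, rfl⟩, h⟩ := h
      exact ⟨t, ht, Or.inl (i2 t h)⟩
  by_cases hK : A ≤ K
  · refine ⟨hK, by_contra fun hn => ?_⟩
    have h8 := cod_add_three_le_of_not_cub (ρ := τ) (A := A.subgroupOf K) (elemAb_of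
      (fun a ha b hb => Subtype.ext (elemAb_comm hA.1 ha hb)) fun a ha => Subtype.ext (hA.1.2 a ha))
      (fun e => hn (map_subgroupOf_eq_of_le hK ▸ (cub_comp _ _).1 (t3 _ e))) h6
    have h9 := t2 (A.subgroupOf K)
    rw [cod_comp, map_subgroupOf_eq_of_le hK] at h9
    have := h4 hK
    omega
  exfalso
  obtain ⟨u, hu, h8⟩ := SetLike.not_le_iff_exists.1 hK
  have h9 := inverts H hm hq h8
  have h10 := cod_sup_add_inf (ρ := ρ) A (A.map (MulAut.conj (f z : Γ)).toMonoidHom)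
  have h11 : (f z : Γ) = u * (f z * u * (f z : Γ)⁻¹) := by
    have e1 : u * u = 1 := by rw [← pow_two, hA.1.2 u hu]
    have e2 : (f z : Γ) ^ 3 = 1 := congrArg Subtype.val hz3
    calc (f z : Γ) = (f z : Γ)⁻¹ * (f z : Γ) ^ 3 * (f z : Γ)⁻¹ := by group
      _ = u * f z * u⁻¹ * (u * u) * (f z : Γ)⁻¹ := by rw [e1, e2, h9]
      _ = _ := by group
  have m1 : u * (f z * u * (f z : Γ)⁻¹) ∈ A ⊔ A.map (MulAut.conj (f z : Γ)).toMonoidHom :=
    mul_mem (mem_sup_left hu) (mem_sup_right (mem_map_of_mem (MulAut.conj (f z : Γ)).toMonoidHom hu))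
  rw [← h11] at m1
  have m2 : (t : Γ) ∈ A ⊓ A.map (MulAut.conj (f z : Γ)).toMonoidHom :=
    ⟨h6, t, h6, mul_inv_eq_iff_eq_mul.2 (congrArg Subtype.val (hzc t))⟩
  have h12 := cod_mono (ρ := ρ) (zpowers_le.2 m1)
  have h13 := cod_mono (ρ := ρ) (zpowers_le.2 m2)
  have h14 := cod_le_finrank (ρ := σ) (zpowers x0)
  rw [cod_of_fx_eq_bot hf] at h12
  rw [cod_conj] at h10
  rw [← hc, t2] at h13
  rw [t2] at h14
  omega

theorem row_two : Row 2 Suz :=
  ⟨row88_of_sit fun _ _ _ _ _ _ _ _ _ _ _ H A hA => ⟨A, hA, (key H hA).2⟩,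
    row89_of_sit fun _ _ _ _ _ _ _ _ _ _ _ H _ hA _ _ _ hK => (hK (key H hA).1).elim⟩

end Cfsg.Agent.TwoF.SpE.Suz
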